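import Cfsg.Agent.Lib.SelfNormNA.Basic
import Cfsg.Agent.Lib.Dickson.Solvable
import Cfsg.Agent.Lib.Dickson.CentralizerCard

/-!
# `PSL(2, 2^n)`, `2^n - 1` prime, has every non-abelian subgroup self-normalising
-/

set_option autoImplicit false
set_option linter.style.haveILetI false
set_option linter.unusedSectionVars false

namespace Cfsg.Lib.SelfNormNA

open Subgroup Matrix
open scoped MatrixGroups

variable {F : Type*} [Field F] [Fintype F] [CharP F 2]

local notation "PSL2" => Matrix.ProjectiveSpecialLinearGroup (Fin 2) F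

theorem even_card_char_two : Fintype.card F % 2 = 0 := FiniteField.even_card_of_char_two ((ringChar.eq_iff).mpr ‹_›)

theorem gcd_two_card_sub_one : Nat.gcd 2 (Fintype.card F - 1) = 1 := by
  have h := even_card_char_two (F := F)
  have h2 := Cfsg.Lib.Dickson.two_le_card (F := F)
  exact Nat.prime_two.coprime_iff_not_dvd.mpr (by omega)

theorem card_psl_char_two : Nat.card PSL2 = Fintype.card F * (Fintype.card F ^ 2 - 1) := by
  rw [← Cfsg.Lib.Linear.Two.card_PSL_two, gcd_two_card_sub_one, one_mul]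

theorem card_normalizer_char_two [Fact (Nat.Prime 2)] (P : Sylow 2 PSL2) :
    Nat.card (normalizer ((P : Subgroup PSL2) : Set PSL2)) = Fintype.card F * (Fintype.card F - 1) := by
  rw [← Cfsg.Lib.Dickson.card_normalizer_sylow_psl 2 P, gcd_two_card_sub_one, one_mul]

theorem mem_sylow_of_sq_eq_one [Fact (Nat.Prime 2)] (P : Sylow 2 PSL2) {a : PSL2}
    (hN : a ∈ normalizer ((P : Subgroup PSL2) : Set PSL2)) (ha : a ^ 2 = 1) : a ∈ (P : Subgroup PSL2) := by
  have hQ : IsPGroup 2 (zpowers a) := fun x => ⟨1, Subtype.ext (by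
    obtain ⟨i, hi⟩ := mem_zpowers_iff.mp x.2
    rw [SubmonoidClass.coe_pow, OneMemClass.coe_one, pow_one, ← hi, ← zpow_natCast, ← _root_.zpow_mul,
      mul_comm, _root_.zpow_mul, zpow_natCast, ha, _root_.one_zpow])⟩
  have h : a ∈ zpowers a ⊓ normalizer ((P : Subgroup PSL2) : Set PSL2) := ⟨mem_zpowers a, hN⟩
  erw [hQ.inf_normalizer_sylow P] at h
  exact h.2

theorem comm_sylow [Fact (Nat.Prime 2)] (P : Sylow 2 PSL2) : Comm (P : Subgroup PSL2) := fun a ha b hb => by
  rcases eq_or_ne a 1 with rfl | h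
  · simp
  · rw [← Cfsg.Lib.Dickson.centralizer_eq_sylow 2 P ha h] at hb
    exact (mem_centralizer_singleton_iff.mp hb).symm

theorem borel_case [Fact (Nat.Prime 2)] (hr : (Fintype.card F - 1).Prime) (H : Subgroup PSL2) (hH : ¬ Comm H)
    (h2 : 2 ∣ Nat.card H) (P : Sylow 2 PSL2) (hle : H ≤ normalizer ((P : Subgroup PSL2) : Set PSL2)) :
    H = normalizer ((P : Subgroup PSL2) : Set PSL2) := by
  set r := Fintype.card F - 1 with hrdef
  have hq : Fintype.card F = r + 1 := by have := Fintype.card_pos (α := F); omega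
  haveI := Fact.mk hr
  obtain ⟨n, -, hn⟩ := FiniteField.card F 2
  have hcop : Nat.Coprime (Fintype.card F) r := by
    rw [hq]; simp
  have hNc := card_normalizer_char_two P
  have hdvd : Nat.card H ∣ Fintype.card F * r := hNc ▸ card_dvd_of_le hle
  have hrH : r ∣ Nat.card H := by
    by_contra h
    have hc : Nat.card H ∣ Fintype.card F := (Nat.Coprime.symm (hr.coprime_iff_not_dvd.mpr h)).dvd_of_dvd_mul_right hdvd
    rw [hn] at hc
    obtain ⟨i, -, hi⟩ := (Nat.dvd_prime_pow Nat.prime_two).mp hc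
    have hH2 : IsPGroup 2 H := IsPGroup.of_card hi
    refine hH ((comm_sylow P).mono fun x hx => ?_)
    have hx' : x ∈ H ⊓ normalizer ((P : Subgroup PSL2) : Set PSL2) := ⟨hx, hle hx⟩
    erw [hH2.inf_normalizer_sylow P] at hx'
    exact hx'.2
  obtain ⟨⟨d, hdH⟩, hd⟩ := exists_prime_orderOf_dvd_card' (G := H) r hrH
  rw [Subgroup.orderOf_mk] at hd
  obtain ⟨⟨a, haH⟩, ha⟩ := exists_prime_orderOf_dvd_card' (G := H) 2 h2
  rw [Subgroup.orderOf_mk] at ha
  have haP : a ∈ (P : Subgroup PSL2) := mem_sylow_of_sq_eq_one P (hle haH) (orderOf_dvd_iff_pow_eq_one.mp ha.dvd)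
  have ha1 : a ≠ 1 := by rintro rfl; simp at ha
  have hfree : ∀ z ∈ zpowers d, z * a * z⁻¹ = a → z = 1 := by
    intro z hz hza
    have hzP : z ∈ (P : Subgroup PSL2) := by
      rw [← Cfsg.Lib.Dickson.centralizer_eq_sylow 2 P haP ha1, mem_centralizer_singleton_iff]
      exact mul_inv_eq_iff_eq_mul.mp hza
    have h1 : orderOf z ∣ r := by
      rw [← hd, ← Nat.card_zpowers d]
      simpa using _root_.orderOf_dvd_natCard (⟨z, hz⟩ : zpowers d)
    have h3 : orderOf z ∣ Fintype.card F := by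
      rw [← Cfsg.Lib.Dickson.card_sylow_psl 2 P]
      simpa using _root_.orderOf_dvd_natCard (⟨z, hzP⟩ : (P : Subgroup PSL2))
    exact orderOf_eq_one_iff.mp (Nat.eq_one_of_dvd_coprimes hcop h3 h1)
  have hsub : (fun z => z * a * z⁻¹) '' (zpowers d : Set PSL2) ⊆ ((H ⊓ (P : Subgroup PSL2) : Subgroup PSL2) : Set PSL2) \ {1} := by
    rintro _ ⟨z, hz, rfl⟩
    have hzH : z ∈ H := zpowers_le.mpr hdH hz
    refine ⟨⟨H.mul_mem (H.mul_mem hzH haH) (H.inv_mem hzH), (mem_normalizer_iff.mp (hle hzH) a).mp haP⟩, ?_⟩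
    simpa [conj_eq_one_iff] using ha1
  have hinj : Set.InjOn (fun z => z * a * z⁻¹) (zpowers d : Set PSL2) := by
    intro z hz w hw h
    have h' : (w⁻¹ * z) * a * (w⁻¹ * z)⁻¹ = a := by
      calc (w⁻¹ * z) * a * (w⁻¹ * z)⁻¹ = w⁻¹ * (z * a * z⁻¹) * w := by group
        _ = a := by simp only at h; rw [h]; group
    exact (inv_mul_eq_one.mp (hfree _ ((zpowers d).mul_mem ((zpowers d).inv_mem hw) hz) h')).symm
  have hge := Set.ncard_le_ncard hsub (Set.toFinite _)
  rw [Set.ncard_image_of_injOn hinj, Set.ncard_sdiff (by simp) , Set.ncard_singleton,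
    ← Nat.card_coe_set_eq, ← Nat.card_coe_set_eq, SetLike.coe_sort_coe, SetLike.coe_sort_coe,
    Nat.card_zpowers, hd] at hge
  have hpos : 0 < Nat.card (H ⊓ (P : Subgroup PSL2) : Subgroup PSL2) := Nat.card_pos
  have hP := Cfsg.Lib.Dickson.card_sylow_psl 2 P
  have hinf : (H ⊓ (P : Subgroup PSL2) : Subgroup PSL2) = (P : Subgroup PSL2) :=
    eq_of_le_of_card_ge inf_le_right (by omega)
  have hqH : Fintype.card F ∣ Nat.card H := hP ▸ card_dvd_of_le (inf_eq_right.mp hinf)
  refine eq_of_le_of_card_ge hle ?_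
  rw [hNc]
  exact Nat.le_of_dvd Nat.card_pos (hcop.mul_dvd_of_dvd_of_dvd hqH hrH)

theorem subgroup_cases [Fact (Nat.Prime 2)] (n : ℕ) (hn : Fintype.card F = 2 ^ n) (hn2 : 2 ≤ n)
    (hp : (2 ^ n - 1).Prime) (H : Subgroup PSL2) (hH : ¬ Comm H) :
    H = ⊤ ∨ (∃ P : Sylow 2 PSL2, H = normalizer ((P : Subgroup PSL2) : Set PSL2)) ∨
      ∃ k : ℕ, k % 2 = 1 ∧ 3 ≤ k ∧ Nonempty (H ≃* DihedralGroup k) := by
  have heven := even_card_char_two (F := F)
  have hg := gcd_two_card_sub_one (F := F)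
  have hr : (Fintype.card F - 1).Prime := hn ▸ hp
  have hnp : n.Prime := (Nat.prime_of_pow_sub_one_prime (by omega) hp).2
  rcases Cfsg.Lib.Dickson.psl_subgroup_cases 2 H with ⟨k, hk, hH'⟩ | ⟨h2, P, hP⟩ |
    ⟨-, (⟨⟨e⟩⟩ | ⟨⟨e⟩⟩ | ⟨⟨e⟩⟩ | ⟨K, _, _, m, _, hK3, hKm, hK⟩)⟩
  · rw [hg, Nat.div_one, Nat.div_one] at hk
    have hkodd : k % 2 = 1 := by
      rcases Nat.mod_two_eq_zero_or_one k with h | h
      · exfalso
        have h2 := Nat.dvd_of_mod_eq_zero h
        have := Fintype.card_pos (α := F)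
        rcases hk with hk | hk <;> · have := h2.trans hk; omega
      · exact h
    rcases hH' with ⟨hc, -⟩ | ⟨⟨e⟩⟩
    · exact absurd (comm_iff.mpr hc.isMulCommutative) hH
    refine Or.inr (Or.inr ⟨k, hkodd, ?_, ⟨e⟩⟩)
    by_contra h3
    have hk1 : k = 1 := by omega
    subst hk1
    have hc : Nat.card H = 2 := by rw [Nat.card_congr e.toEquiv, DihedralGroup.nat_card]
    haveI := isCyclic_of_prime_card hc
    exact hH (comm_iff.mpr IsCyclic.isMulCommutative)
  · exact Or.inr (Or.inl ⟨P, borel_case hr H hH h2 P hP⟩)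
  · let V : Subgroup (alternatingGroup (Fin 4)) :=
      { carrier := {x | x * x = 1}
        one_mem' := one_mul 1
        mul_mem' := fun {a b} ha hb => by
          revert a b
          decide
        inv_mem' := fun {a} ha => by
          simp only [Set.mem_setOf_eq] at ha ⊢
          rw [← _root_.mul_inv_rev, ha, inv_one] }
    haveI : V.Normal := ⟨fun x (hx : x * x = 1) g => by
      show g * x * g⁻¹ * (g * x * g⁻¹) = 1
      calc g * x * g⁻¹ * (g * x * g⁻¹) = g * (x * x) * g⁻¹ := by group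
        _ = 1 := by rw [hx, mul_one, mul_inv_cancel]⟩
    let R : Subgroup H := V.comap e.toMonoidHom
    have hR : IsPGroup 2 R := fun r => ⟨1, Subtype.ext (e.injective (by
      show e (((r ^ 2 ^ 1 : R) : H)) = e 1
      rw [SubmonoidClass.coe_pow, map_pow, map_one, pow_one, sq]
      exact r.2))⟩
    have hRne : R ≠ ⊥ := by
      obtain ⟨x, hx, hx1⟩ : ∃ x : alternatingGroup (Fin 4), x * x = 1 ∧ x ≠ 1 := by decide
      intro h
      have hm : e.symm x ∈ R := by
        show e (e.symm x) * e (e.symm x) = 1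
        rw [e.apply_symm_apply, hx]
      rw [h, Subgroup.mem_bot] at hm
      exact hx1 (e.symm.injective (hm.trans (map_one _).symm))
    obtain ⟨h2, P, hP⟩ := Cfsg.Lib.Dickson.le_normalizer_of_normal_pgroup 2 H R hR hRne
    exact Or.inr (Or.inl ⟨P, borel_case hr H hH h2 P hP⟩)
  · have h := Cfsg.Lib.Dickson.sq_mod_sixteen_of_perm_four e
    obtain ⟨c, hc⟩ := Nat.dvd_of_mod_eq_zero heven
    rw [hc, mul_pow] at h
    omega
  · refine Or.inl ?_
    have h60 := Cfsg.Lib.Dickson.card_target_five e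
    rcases hnp.eq_two_or_odd' with h | ⟨j, hj⟩
    · refine eq_top_of_card_eq H ?_
      rw [h60, card_psl_char_two, hn, h]
      norm_num
    · exfalso
      have h5 := Cfsg.Lib.Dickson.five_dvd_of_alternating_five e
      have hsq : Fintype.card F ^ 2 % 5 = 4 := by
        rw [hn, hj, ← pow_mul, show (2 * j + 1) * 2 = 4 * j + 2 by ring, pow_add, pow_mul, Nat.mul_mod, Nat.pow_mod]
        norm_num
      rcases (Nat.prime_five).dvd_mul.mp h5 with h | h
      · rw [hn] at h
        have := (Nat.prime_dvd_prime_iff_eq Nat.prime_five Nat.prime_two).mp (Nat.prime_five.dvd_of_dvd_pow h)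
        omega
      · omega
  · have hm0 : m ≠ 0 := by
      rintro rfl
      rw [pow_zero] at hKm
      have := Cfsg.Lib.Dickson.two_le_card (F := F)
      omega
    obtain ⟨a, -, ha⟩ := (Nat.dvd_prime_pow Nat.prime_two).mp (hn ▸ hKm ▸ dvd_pow_self _ hm0 : Fintype.card K ∣ 2 ^ n)
    have ha2 : 2 ≤ a := by
      by_contra h
      interval_cases a <;> simp_all
    rcases hK with ⟨-, hodd⟩ | ⟨⟨eK⟩⟩
    · exfalso
      rw [ha, Nat.pow_mod] at hodd
      simp [show a ≠ 0 by omega] at hodd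
    · have han : a * m = n := Nat.pow_right_injective le_rfl (by
        show 2 ^ (a * m) = 2 ^ n
        rw [pow_mul, ← ha, hKm, hn])
      have haeq : a = n := ((hnp.eq_one_or_self_of_dvd a ⟨m, han.symm⟩).resolve_left (by omega))
      refine Or.inl (eq_top_of_card_eq H ?_)
      rw [Nat.card_congr eK.toEquiv, Cfsg.Lib.Dickson.card_PGL_two_eq, card_psl_char_two, ha, haeq, hn]

theorem dihedral_normal_eq_top {k : ℕ} (hk : k % 2 = 1) {M : Subgroup (DihedralGroup k)} [M.Normal]
    {x : DihedralGroup k} (hx : x ∈ M) (h2 : orderOf x = 2) : M = ⊤ := by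
  haveI : NeZero k := ⟨by omega⟩
  have hu : IsUnit ((2 : ℕ) : ZMod k) := (ZMod.isUnit_iff_coprime 2 k).mpr
    (Nat.prime_two.coprime_iff_not_dvd.mpr (by omega))
  obtain ⟨i, rfl⟩ : ∃ i, x = DihedralGroup.sr i := by
    cases x with
    | sr i => exact ⟨i, rfl⟩
    | r i =>
      exfalso
      rw [DihedralGroup.orderOf_r] at h2
      have hd : 2 ∣ k := ⟨Nat.gcd k i.val, by
        rw [← h2, Nat.div_mul_cancel (Nat.gcd_dvd_left _ _)]⟩
      omega
  have hsr : ∀ l, DihedralGroup.sr l ∈ M := fun l => by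
    obtain ⟨j, hj⟩ : ∃ j : ZMod k, ((2 : ℕ) : ZMod k) * j = i - l := ⟨↑hu.unit⁻¹ * (i - l), by
      rw [← mul_assoc, IsUnit.mul_val_inv, one_mul]⟩
    have h := Normal.conj_mem ‹M.Normal› _ hx (DihedralGroup.r j)
    simp only [DihedralGroup.r_mul_sr, DihedralGroup.inv_r, DihedralGroup.sr_mul_r] at h
    rw [show i - j + -j = l by push_cast at hj; linear_combination -hj] at h
    exact h
  refine eq_top_iff.mpr fun y _ => ?_
  cases y with
  | sr l => exact hsr l
  | r l => have h := mul_mem (hsr 0) (hsr l); simpa using h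

theorem sn_psl (n : ℕ) (hn : Fintype.card F = 2 ^ n) (hn2 : 2 ≤ n) (hp : (2 ^ n - 1).Prime) : SN PSL2 := by
  haveI := Fact.mk Nat.prime_two
  haveI : IsSimpleGroup PSL2 := Matrix.ProjectiveSpecialLinearGroup.rank_two_simple (by
    rw [Nat.card_eq_fintype_card, hn]
    exact le_trans (by norm_num) (Nat.pow_le_pow_right two_pos hn2))
  intro H hH g hg
  set N := normalizer (H : Set PSL2) with hN
  have hgN : g ∈ N := Cfsg.Lib.Fusion.le_normalizer_of_conj_mem hg
  rcases subgroup_cases n hn hn2 hp H hH with rfl | ⟨P, rfl⟩ | ⟨k, hk, hk3, ⟨e⟩⟩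
  · exact mem_top g
  · rw [hN] at hgN
    erw [Sylow.normalizer_normalizer] at hgN
    exact hgN
  · have hHN : H ≤ N := le_normalizer
    rcases subgroup_cases n hn hn2 hp N (fun hc => hH (hc.mono hHN)) with hT | ⟨P, hP⟩ | ⟨k', hk', -, ⟨e'⟩⟩
    · haveI : H.Normal := normalizer_eq_top_iff.mp hT
      rcases (inferInstance : H.Normal).eq_bot_or_eq_top with h | h
      · exact absurd (h ▸ fun a ha b hb => by rw [mem_bot.mp ha, mem_bot.mp hb]) hH
      · exact h ▸ mem_top g
    · exfalso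
      have hmem : ∀ i, (e.symm (DihedralGroup.sr i) : PSL2) ∈ (P : Subgroup PSL2) := fun i =>
        mem_sylow_of_sq_eq_one P (hP ▸ hHN (e.symm _).2) (by
          rw [← SubmonoidClass.coe_pow, ← map_pow, sq, DihedralGroup.sr_mul_self, map_one, OneMemClass.coe_one])
      have hcm := comm_sylow P _ (hmem 0) _ (hmem 1)
      rw [← MulMemClass.coe_mul, ← MulMemClass.coe_mul, ← map_mul, ← map_mul] at hcm
      have h2 := e.symm.injective (Subtype.ext hcm)
      simp only [DihedralGroup.sr_mul_sr, DihedralGroup.r.injEq] at h2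
      have h3 : ((2 : ℕ) : ZMod k) = 0 := by push_cast; linear_combination h2
      have := Nat.le_of_dvd two_pos ((ZMod.natCast_eq_zero_iff _ _).mp h3)
      omega
    · let M : Subgroup (DihedralGroup k') := (H.subgroupOf N).map e'.toMonoidHom
      haveI : (H.subgroupOf N).Normal := normal_in_normalizer
      haveI : M.Normal := Normal.map inferInstance _ e'.surjective
      haveI := Fact.mk Nat.prime_two
      let x : N := ⟨(e.symm (DihedralGroup.sr 0) : PSL2), hHN (e.symm _).2⟩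
      have hx : x ∈ H.subgroupOf N := mem_subgroupOf.mpr (e.symm _).2
      have h2 : orderOf (e' x) = 2 := by
        rw [e'.orderOf_eq, ← Subgroup.orderOf_coe]
        show orderOf ((e.symm (DihedralGroup.sr 0) : H) : PSL2) = 2
        rw [Subgroup.orderOf_coe, e.symm.orderOf_eq, DihedralGroup.orderOf_sr]
      have hM := dihedral_normal_eq_top (M := M) hk' ⟨x, hx, rfl⟩ h2
      obtain ⟨y, hy, hye⟩ := hM.ge (mem_top (e' ⟨g, hgN⟩))
      obtain rfl := e'.injective hye
      exact mem_subgroupOf.mp hy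

end Cfsg.Lib.SelfNormNA
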