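import Cfsg.Agent.Lib.SelfNormNA.Structure

/-!
# Centralisers in a simple group with the property are abelian
-/

set_option autoImplicit false
set_option linter.style.haveILetI false
set_option linter.unusedSectionVars false

namespace Cfsg.Lib.SelfNormNA

open Subgroup
open scoped commutatorElement

variable {G : Type*} [Group G] [Finite G]

theorem commutator_eq_top_of_simple [IsSimpleGroup G] (hna : ¬ IsMulCommutative G) : commutator G = ⊤ := by
  rcases (inferInstance : (commutator G).Normal).eq_bot_or_eq_top with h | h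
  · exact absurd ⟨⟨fun a b => commutatorElement_eq_one_iff_mul_comm.mp
      (mem_bot.mp (h ▸ commutator_mem_commutator (mem_top a) (mem_top b)))⟩⟩ hna
  · exact h

theorem center_eq_bot_of_simple [IsSimpleGroup G] (hna : ¬ IsMulCommutative G) : center G = ⊥ := by
  rcases (inferInstance : (center G).Normal).eq_bot_or_eq_top with h | h
  · exact h
  · exact absurd ⟨⟨fun a b => (mem_center_iff.mp (h ▸ mem_top a) b).symm⟩⟩ hna

omit [Finite G] in
theorem conj_mem_centralizer {x n : G} {i j : ℤ} (hn : n * x * n⁻¹ = x ^ i) (hj : (x ^ i) ^ j = x) {y : G}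
    (hy : y ∈ centralizer ({x} : Set G)) : n * y * n⁻¹ ∈ centralizer ({x} : Set G) := by
  rw [mem_centralizer_singleton_iff] at hy ⊢
  have h : Commute (n * y * n⁻¹) (x ^ i) := by
    show _ = _
    rw [← hn]
    calc n * y * n⁻¹ * (n * x * n⁻¹) = n * (y * x) * n⁻¹ := by group
      _ = n * x * n⁻¹ * (n * y * n⁻¹) := by rw [hy]; group
  have h2 := h.zpow_right j
  rw [hj] at h2
  exact h2.eq

theorem false_of_twist (hsn : SN G) {c a u w : G} {e : ℕ} (hca : Commute c a)
    (hC : ∀ y : G, Commute y c → Commute y a → y ∈ closure ({c, a} : Set G))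
    (huc : MulAut.conj u c = c) (hua : MulAut.conj u a = c * a) (hne : c * a ≠ a)
    (hwc : MulAut.conj w c ∈ closure ({c, a} : Set G)) (hwa : MulAut.conj w a ∈ closure ({c, a} : Set G))
    (hwne : MulAut.conj w c ≠ c)
    (htc : MulAut.conj (u * w * u⁻¹) c = MulAut.conj (w ^ e) c)
    (hta : MulAut.conj (u * w * u⁻¹) a = MulAut.conj (w ^ e) a)
    (hpow : ∀ i : ℤ, ¬ (MulAut.conj (w ^ i) c = c ∧ MulAut.conj (w ^ i) a = c * a)) : False := by
  set U := closure ({c, a} : Set G) with hU
  have hcU : c ∈ U := subset_closure (by simp)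
  have haU : a ∈ U := subset_closure (by simp)
  have hUc : Comm U := comm_closure (by
    rintro _ (rfl | rfl) _ (rfl | rfl)
    exacts [rfl, hca.eq, hca.eq.symm, rfl])
  have hnorm : ∀ g : G, MulAut.conj g c ∈ U → MulAut.conj g a ∈ U → g ∈ normalizer (U : Set G) := by
    intro g h1 h2
    refine Cfsg.Lib.Fusion.le_normalizer_of_conj_mem fun x hx => ?_
    induction hx using closure_induction with
    | mem y hy =>
      rcases hy with rfl | rfl
      · simpa using h1
      · simpa using h2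
    | one => simp
    | mul y z _ _ hy hz =>
      rw [show g * (y * z) * g⁻¹ = (g * y * g⁻¹) * (g * z * g⁻¹) by group]
      exact mul_mem hy hz
    | inv y _ hy =>
      rw [show g * y⁻¹ * g⁻¹ = (g * y * g⁻¹)⁻¹ by group]
      exact inv_mem hy
  have hwN : zpowers w ≤ normalizer (U : Set G) := zpowers_le.mpr (hnorm w hwc hwa)
  have huN : u ∈ normalizer (U : Set G) := hnorm u (huc.symm ▸ hcU) (hua.symm ▸ mul_mem hcU haU)
  set X := U ⊔ zpowers w with hX
  have hXmem : ∀ g ∈ X, ∃ y ∈ U, ∃ i : ℤ, g = y * w ^ i := by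
    intro g hg
    rw [← SetLike.mem_coe, hX, Subgroup.coe_mul_of_right_le_normalizer_left U _ hwN] at hg
    obtain ⟨y, hy, t, ⟨i, rfl⟩, rfl⟩ := hg
    exact ⟨y, hy, i, rfl⟩
  have hwX : w ∈ X := mem_sup_right (mem_zpowers w)
  have hXnc : ¬ Comm X := fun h => hwne (by
    rw [MulAut.conj_apply, h w hwX c (mem_sup_left hcU), mul_inv_cancel_right])
  have huw : u * w * u⁻¹ ∈ X := by
    set d := (w ^ e)⁻¹ * (u * w * u⁻¹) with hd
    have hfix : ∀ z : G, MulAut.conj (u * w * u⁻¹) z = MulAut.conj (w ^ e) z → Commute d z := by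
      intro z hz
      have : MulAut.conj d z = z := by
        rw [hd, map_mul, MulAut.mul_apply, hz, ← MulAut.mul_apply, ← map_mul, inv_mul_cancel, map_one,
          MulAut.one_apply]
      rw [MulAut.conj_apply] at this
      exact (mul_inv_eq_iff_eq_mul.mp this)
    rw [show u * w * u⁻¹ = w ^ e * d by rw [hd, mul_inv_cancel_left]]
    exact mul_mem (pow_mem hwX e) (mem_sup_left (hC d (hfix c htc) (hfix a hta)))
  have huX : u ∈ X := by
    refine hsn X hXnc u fun g hg => ?_
    obtain ⟨y, hy, i, rfl⟩ := hXmem g hg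
    rw [show u * (y * w ^ i) * u⁻¹ = (u * y * u⁻¹) * (u * w ^ i * u⁻¹) by group, ← conj_zpow]
    exact mul_mem (mem_sup_left ((mem_normalizer_iff.mp huN y).mp hy)) (zpow_mem huw i)
  obtain ⟨y, hy, i, hi⟩ := hXmem u huX
  have hyfix : ∀ z ∈ U, MulAut.conj (w ^ i) z ∈ U → MulAut.conj u z = MulAut.conj (w ^ i) z := by
    intro z _ hz
    rw [hi, map_mul, MulAut.mul_apply, MulAut.conj_apply, hUc y hy _ hz, mul_inv_cancel_right]
  have hwi : ∀ z ∈ U, MulAut.conj (w ^ i) z ∈ U := fun z hz => by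
    rw [MulAut.conj_apply]
    exact (mem_normalizer_iff.mp (hwN (zpow_mem (mem_zpowers w) i)) z).mp hz
  exact hpow i ⟨by rw [← hyfix c hcU (hwi c hcU), huc], by rw [← hyfix a haU (hwi a haU), hua]⟩

/-- The centraliser of an element of prime order is not a non-abelian `p`-group. -/
theorem false_of_centralizer_pgroup [IsSimpleGroup G] (hna : ¬ IsMulCommutative G) (hsn : SN G) {p : ℕ}
    [hp : Fact p.Prime] {x : G} (hx1 : x ≠ 1) (hC : IsPGroup p (centralizer ({x} : Set G)))
    (hnc : ¬ Comm (centralizer ({x} : Set G))) : False := by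
  set C := centralizer ({x} : Set G) with hCdef
  obtain ⟨P, hP⟩ := hC.exists_le_sylow
  have hPC : (P : Subgroup G) = C := by
    by_contra hne
    haveI := P.isPGroup'.isNilpotent
    have hlt : C.subgroupOf (P : Subgroup G) < ⊤ :=
      lt_top_iff_ne_top.mpr fun h => hne (le_antisymm (subgroupOf_eq_top.mp h) hP)
    obtain ⟨g, hg, hgC⟩ := SetLike.exists_of_lt (Group.normalizerCondition_of_isNilpotent _ hlt)
    exact hgC (mem_subgroupOf.mpr (hsn C hnc g fun y hy =>
      mem_subgroupOf.mp ((mem_normalizer_iff.mp hg ⟨y, hP hy⟩).mp (mem_subgroupOf.mpr hy))))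
  have hxP : x ∈ (P : Subgroup G) := hPC ▸ mem_centralizer_singleton_iff.mpr rfl
  obtain ⟨c, a, g, hcP, haP, hc1, hcp, hcc, hcen, hder, ha, hag⟩ :=
    hsn.sylow_configuration (commutator_eq_top_of_simple hna) P (hPC ▸ hnc)
  have hxc : x ∈ zpowers c := hcen x hxP fun y hy => mem_centralizer_singleton_iff.mp (hPC.le hy)
  obtain ⟨n, hn⟩ := hxc
  obtain ⟨m, hm⟩ : ∃ m : ℤ, x ^ m = c := by
    rcases zpow_eq_one_or_gen hcp n with h | ⟨m, hm⟩
    · exact absurd (hn ▸ h) hx1
    · exact ⟨m, hn ▸ hm⟩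
  have hCc : ∀ y : G, Commute y c → y ∈ (P : Subgroup G) := fun y hy => by
    rw [hPC]
    refine mem_centralizer_singleton_iff.mpr ?_
    rw [← hn]
    exact (hy.zpow_right n).eq
  have hcP' : ∀ y ∈ (P : Subgroup G), Commute y c := fun y hy => hcc y hy
  have hca : Commute c a := (hcP' a haP).symm
  have hap : a ^ p = 1 := by rw [hag, conj_pow, hcp, mul_one, mul_inv_cancel]
  obtain ⟨u₀, hu₀, hu₀a⟩ : ∃ u ∈ (P : Subgroup G), u * a ≠ a * u := by
    by_contra h
    push Not at h
    exact ha (hcen a haP h)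
  have hac : a ∉ zpowers c := ha
  have hca' : c ∉ zpowers a := fun ⟨i, hi⟩ => by
    rcases zpow_eq_one_or_gen hap i with h | ⟨k, hk⟩
    · exact hc1 (hi ▸ h)
    · exact ha ⟨k, hi ▸ hk⟩
  -- a transvection in `P`
  have hstep : ∀ (u₀ c a : G), (∀ k : ℕ, Commute (u₀ ^ k) c) → c ^ p = 1 → ⁅u₀, a⁆ ∈ zpowers c →
      u₀ * a ≠ a * u₀ → ∃ k : ℕ, MulAut.conj (u₀ ^ k) c = c ∧ MulAut.conj (u₀ ^ k) a = c * a := by
    intro u₀ c a hu hcp ⟨i, hi⟩ hne
    have hia : u₀ * a * u₀⁻¹ = c ^ i * a := by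
      rw [show c ^ i = ⁅u₀, a⁆ from hi, commutatorElement_def]; group
    rcases zpow_eq_one_or_gen hcp i with h | ⟨k, hk⟩
    · exact absurd (by rw [← commutatorElement_eq_one_iff_mul_comm, ← hi]; exact h) hne
    have hiter : ∀ j : ℕ, MulAut.conj (u₀ ^ j) a = (c ^ i) ^ j * a := by
      intro j
      induction j with
      | zero => simp
      | succ j ih =>
        have hcomm : MulAut.conj (u₀ ^ j) (c ^ i) = c ^ i := by
          rw [MulAut.conj_apply, ((hu j).zpow_right i).eq, mul_inv_cancel_right]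
        rw [pow_succ, map_mul, MulAut.mul_apply, MulAut.conj_apply u₀, hia, map_mul, hcomm, ih,
          ← mul_assoc, ← pow_succ']
    obtain ⟨k', hk'⟩ : ∃ k' : ℕ, (c ^ i) ^ k' = c := by
      refine ⟨(k % (orderOf (c ^ i) : ℤ)).toNat, ?_⟩
      rw [← zpow_natCast, Int.toNat_of_nonneg (Int.emod_nonneg _ (by
        exact_mod_cast (orderOf_pos (c ^ i)).ne')), zpow_mod_orderOf, hk]
    exact ⟨k', by rw [MulAut.conj_apply, (hu k').eq, mul_inv_cancel_right], by rw [hiter, hk']⟩
  obtain ⟨k, huc, hua⟩ := hstep u₀ c a (fun k => hcP' _ (pow_mem hu₀ k)) hcp (hder u₀ hu₀ a haP) hu₀a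
  set u := u₀ ^ k with hu
  have huP : u ∈ (P : Subgroup G) := pow_mem hu₀ k
  -- the same in the Sylow subgroup centred at `a`
  set P₂ := (P : Subgroup G).map (MulAut.conj g).toMonoidHom with hP₂
  have hcP₂ : c ∈ P₂ := by
    refine ⟨g⁻¹ * c * g, hCc _ ?_, by simp [mul_assoc]⟩
    show g⁻¹ * c * g * c = c * (g⁻¹ * c * g)
    have h := hca.eq
    rw [hag] at h
    calc g⁻¹ * c * g * c = g⁻¹ * (c * (g * c * g⁻¹)) * g := by group
      _ = c * (g⁻¹ * c * g) := by rw [h]; group
  have haP₂ : ∀ y ∈ P₂, Commute y a := by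
    rintro _ ⟨y, hy, rfl⟩
    show Commute (g * y * g⁻¹) a
    rw [hag]
    show _ = _
    calc g * y * g⁻¹ * (g * c * g⁻¹) = g * (y * c) * g⁻¹ := by group
      _ = g * c * g⁻¹ * (g * y * g⁻¹) := by rw [hcc y hy]; group
  have hder₂ : ∀ y ∈ P₂, ∀ z ∈ P₂, ⁅y, z⁆ ∈ zpowers a := by
    rintro _ ⟨y, hy, rfl⟩ _ ⟨z, hz, rfl⟩
    obtain ⟨i, hi⟩ := hder y hy z hz
    refine ⟨i, ?_⟩
    show a ^ i = _
    rw [← map_commutatorElement, ← hi]
    show a ^ i = g * c ^ i * g⁻¹
    rw [← conj_zpow, hag]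
  obtain ⟨v₀, hv₀, hv₀c⟩ : ∃ v ∈ P₂, v * c ≠ c * v := by
    by_contra h
    push Not at h
    refine hca' ?_
    obtain ⟨y, hy, hyc⟩ := hcP₂
    obtain ⟨i, hi⟩ := hcen y hy fun z hz => by
      apply (MulAut.conj g).injective
      rw [map_mul, map_mul]
      show MulAut.conj g z * MulAut.conj g y = _
      rw [show MulAut.conj g y = c from hyc]
      exact h _ ⟨z, hz, rfl⟩
    refine ⟨i, ?_⟩
    show a ^ i = c
    rw [hag, conj_zpow, show c ^ i = y from hi]
    exact hyc
  obtain ⟨l, hva, hvc⟩ := hstep v₀ a c (fun l => haP₂ _ (pow_mem hv₀ l)) hap (hder₂ v₀ hv₀ c hcP₂) hv₀c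
  set v := v₀ ^ l with hv
  -- `U = ⟨c, a⟩` is self-centralising
  obtain ⟨hcl, -, -, -⟩ := hsn.subgroup_minimal_nonabelian P.isPGroup' haP hu₀ (Ne.symm hu₀a)
  have hCU : ∀ y : G, Commute y c → Commute y a → y ∈ closure ({c, a} : Set G) := by
    intro y hyc hya
    have hyP := hCc y hyc
    by_contra hy
    set H := closure ({c, a, y} : Set G) with hH
    have hHc : Comm H := comm_closure (by
      rintro _ (rfl | rfl | rfl) _ (rfl | rfl | rfl)
      exacts [rfl, hca.eq, hyc.eq.symm, hca.eq.symm, rfl, hya.eq.symm, hyc.eq, hya.eq, rfl])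
    set U := closure ({c, a} : Set G) with hU
    have hUP : U ≤ (P : Subgroup G) := (closure_le _).mpr (by rintro _ (rfl | rfl) <;> assumption)
    haveI : (U.subgroupOf (P : Subgroup G)).Normal := ⟨fun x hx z => by
      have hx' : (x : G) ∈ U := mem_subgroupOf.mp hx
      refine mem_subgroupOf.mpr ?_
      show (z : G) * x * (z : G)⁻¹ ∈ U
      obtain ⟨i, hi⟩ := hder z z.2 x x.2
      have : (z : G) * x * (z : G)⁻¹ = c ^ i * x := by
        rw [show c ^ i = ⁅(z : G), (x : G)⁆ from hi, commutatorElement_def]; group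
      rw [this]
      exact mul_mem (zpow_mem (subset_closure (by simp)) i) hx'⟩
    have hcom : ∀ z ∈ (P : Subgroup G), ∃ i : ℕ, ∃ w ∈ U, z = w * u₀ ^ i := by
      intro z hz
      have h1 : (P : Subgroup G) ≤ U ⊔ zpowers u₀ := by
        rw [← hcl, closure_le]
        rintro _ (rfl | rfl)
        · exact mem_sup_left (subset_closure (by simp))
        · exact mem_sup_right (mem_zpowers _)
      have hN : zpowers u₀ ≤ normalizer (U : Set G) := zpowers_le.mpr
        (Cfsg.Lib.Fusion.le_normalizer_of_conj_mem fun x hx => mem_subgroupOf.mp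
          ((inferInstance : (U.subgroupOf (P : Subgroup G)).Normal).conj_mem ⟨x, hUP hx⟩
            (mem_subgroupOf.mpr hx) ⟨u₀, hu₀⟩))
      have h2 := h1 hz
      rw [← SetLike.mem_coe, Subgroup.coe_mul_of_right_le_normalizer_left U _ hN] at h2
      obtain ⟨w, hw, t, ht, rfl⟩ := h2
      obtain ⟨i, hi⟩ := mem_powers_iff_mem_zpowers.mpr ht
      exact ⟨i, w, hw, by rw [show u₀ ^ i = t from hi]⟩
    obtain ⟨i, w, hw, rfl⟩ := hcom y hyP
    refine hy (mul_mem hw ?_)
    have hUa : Commute w a := comm_closure (by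
      rintro _ (rfl | rfl) _ (rfl | rfl)
      exacts [rfl, hca.eq, hca.eq.symm, rfl]) w hw a (subset_closure (by simp))
    have hia : Commute (u₀ ^ i) a := by
      have h := hUa.inv_left.mul_left hya
      rwa [inv_mul_cancel_left] at h
    have hic : u₀ ^ i ∈ zpowers c := by
      refine hcen _ (pow_mem hu₀ i) fun z hz => ?_
      have hle : (P : Subgroup G) ≤ centralizer ({u₀ ^ i} : Set G) := by
        rw [← hcl, closure_le]
        rintro q (hq | hq)
        · rw [hq]; exact mem_centralizer_singleton_iff.mpr hia.eq.symm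
        · rw [Set.mem_singleton_iff.mp hq]
          exact mem_centralizer_singleton_iff.mpr (Commute.self_pow u₀ i).eq
      exact mem_centralizer_singleton_iff.mp (hle hz)
    obtain ⟨j, hj⟩ := hic
    rw [← hj]
    exact zpow_mem (subset_closure (by simp)) j
  have hne : c * a ≠ a := fun h => hc1 (mul_eq_right.mp h)
  have hinv : ∀ {h : G} {z z' : G}, MulAut.conj h z = z' → MulAut.conj h⁻¹ z' = z := fun {h z z'} he => by
    rw [← he, ← MulAut.mul_apply, ← map_mul, inv_mul_cancel, map_one, MulAut.one_apply]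
  have hu'a : MulAut.conj u⁻¹ a = c⁻¹ * a := by
    apply (MulAut.conj u).injective
    rw [← MulAut.mul_apply, ← map_mul, mul_inv_cancel, map_one, MulAut.one_apply, map_mul, map_inv, huc, hua,
      inv_mul_cancel_left]
  have hu'c : MulAut.conj u⁻¹ c = c := hinv huc
  have hv'a : MulAut.conj v⁻¹ a = a := hinv hva
  have hv'c : MulAut.conj v⁻¹ c = a⁻¹ * c := by
    apply (MulAut.conj v).injective
    rw [← MulAut.mul_apply, ← map_mul, mul_inv_cancel, map_one, MulAut.one_apply, map_mul, map_inv, hva, hvc,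
      inv_mul_cancel_left]
  rcases hp.out.eq_two_or_odd' with h2 | hodd
  · subst h2
    have hc2 : c * c = 1 := by rw [← sq]; exact hcp
    have wc : MulAut.conj (u * v) c = a := by
      rw [map_mul, MulAut.mul_apply, hvc, map_mul, hua, huc, mul_assoc, hca.symm.eq, ← mul_assoc, hc2, one_mul]
    have wa : MulAut.conj (u * v) a = c * a := by rw [map_mul, MulAut.mul_apply, hva, hua]
    have wca : MulAut.conj (u * v) (c * a) = c := by
      rw [map_mul (MulAut.conj (u * v)), wc, wa, ← mul_assoc, ← hca.eq, mul_assoc, show a * a = 1 by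
        rw [← sq]; exact hap, mul_one]
    have w3 : ∀ z, z = c ∨ z = a → MulAut.conj ((u * v) ^ 3) z = z := by
      intro z hz
      rw [pow_succ, pow_two, map_mul _ (u * v * (u * v)) (u * v), MulAut.mul_apply,
        map_mul _ (u * v) (u * v), MulAut.mul_apply]
      rcases hz with rfl | rfl
      · rw [wc, wa, wca]
      · rw [wa, wca, wc]
    refine false_of_twist hsn (w := u * v) (e := 2) hca hCU huc hua hne (wc ▸ subset_closure (by simp))
      (wa ▸ mul_mem (subset_closure (by simp)) (subset_closure (by simp))) ?_ ?_ ?_ ?_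
    · rw [wc]
      exact fun h => ha (h ▸ mem_zpowers c)
    · rw [map_mul, MulAut.mul_apply, hu'c, map_mul _ u (u * v), MulAut.mul_apply, wc, hua, sq,
        map_mul _ (u * v) (u * v), MulAut.mul_apply, wc, wa]
    · rw [map_mul, MulAut.mul_apply, hu'a, map_mul _ u (u * v), MulAut.mul_apply,
        inv_eq_of_mul_eq_one_left hc2, wca, huc, sq, map_mul _ (u * v) (u * v), MulAut.mul_apply, wa, wca]
    · rintro i ⟨h1, h2⟩
      have h3 : ∀ z, z = c ∨ z = a → ∀ j : ℤ, MulAut.conj ((u * v) ^ (3 * j)) z = z := by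
        intro z hz j
        have hcm : Commute ((u * v) ^ 3) z := by
          have := w3 z hz
          rw [MulAut.conj_apply, mul_inv_eq_iff_eq_mul] at this
          exact this
        rw [MulAut.conj_apply, zpow_mul, zpow_ofNat, (hcm.zpow_left j).eq, mul_inv_cancel_right]
      rw [show i = i % 3 + 3 * (i / 3) from (Int.emod_add_mul_ediv i 3).symm, zpow_add, map_mul,
        MulAut.mul_apply, h3 c (Or.inl rfl)] at h1
      rw [show i = i % 3 + 3 * (i / 3) from (Int.emod_add_mul_ediv i 3).symm, zpow_add, map_mul,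
        MulAut.mul_apply, h3 a (Or.inr rfl)] at h2
      rcases (show i % 3 = 0 ∨ i % 3 = 1 ∨ i % 3 = 2 by omega) with h | h | h <;> rw [h] at h1 h2
      · rw [zpow_zero, map_one, MulAut.one_apply] at h2
        exact hne h2.symm
      · rw [zpow_one, wc] at h1
        exact ha (h1 ▸ mem_zpowers c)
      · rw [zpow_ofNat, sq, map_mul, MulAut.mul_apply, wc, wa] at h1
        exact ha (by rw [mul_eq_left.mp h1]; exact one_mem _)
  · set w₁ := u * v⁻¹ * u with hw₁
    have w1c : MulAut.conj w₁ c = a⁻¹ := by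
      rw [hw₁, map_mul, MulAut.mul_apply, huc, map_mul, MulAut.mul_apply, hv'c, map_mul, map_inv, hua, huc,
        mul_inv_rev, mul_assoc, inv_mul_cancel, mul_one]
    have w1a : MulAut.conj w₁ a = c := by
      rw [hw₁, map_mul _ (u * v⁻¹) u, MulAut.mul_apply, hua, map_mul _ u v⁻¹, MulAut.mul_apply,
        map_mul (MulAut.conj v⁻¹), hv'c, hv'a, mul_assoc, hca.eq, inv_mul_cancel_left, huc]
    have tc : MulAut.conj (w₁ * w₁) c = c⁻¹ := by rw [map_mul, MulAut.mul_apply, w1c, map_inv, w1a]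
    have ta : MulAut.conj (w₁ * w₁) a = a⁻¹ := by rw [map_mul, MulAut.mul_apply, w1a, w1c]
    set t := w₁ * w₁ with ht
    have hsq : ∀ {z : G}, z ^ p = 1 → z * z = 1 → z = 1 := fun {z} h1 h2 => by
      refine orderOf_eq_one_iff.mp (Nat.eq_one_of_dvd_coprimes ?_ (orderOf_dvd_of_pow_eq_one h1)
        (orderOf_dvd_of_pow_eq_one (n := 2) (by rw [sq]; exact h2)))
      exact hodd.coprime_two_right
    refine false_of_twist hsn (w := t) (e := 1) hca hCU huc hua hne (tc ▸ inv_mem (subset_closure (by simp)))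
      (ta ▸ inv_mem (subset_closure (by simp))) ?_ ?_ ?_ ?_
    · rw [tc]
      exact fun h => hc1 (hsq hcp (by nth_rewrite 1 [← h]
                                      exact inv_mul_cancel c))
    · rw [pow_one, map_mul, MulAut.mul_apply, hu'c, map_mul, MulAut.mul_apply, tc, map_inv, huc]
    · rw [pow_one, map_mul _ (u * t) u⁻¹, MulAut.mul_apply, hu'a, map_mul _ u t, MulAut.mul_apply,
        map_mul (MulAut.conj t) c⁻¹ a, map_inv, tc, ta, inv_inv, map_mul, map_inv, huc, hua, mul_inv_rev,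
        ← mul_assoc, hca.inv_right.eq, mul_inv_cancel_right]
    · rintro i ⟨h1, h2⟩
      have h2' : ∀ z, z = c ∨ z = a → ∀ j : ℤ, MulAut.conj (t ^ (2 * j)) z = z := by
        intro z hz j
        have hcm : Commute (t ^ 2) z := by
          have : MulAut.conj (t ^ 2) z = z := by
            rcases hz with rfl | rfl <;> rw [sq, map_mul, MulAut.mul_apply]
            · rw [tc, map_inv, tc, inv_inv]
            · rw [ta, map_inv, ta, inv_inv]
          rw [MulAut.conj_apply, mul_inv_eq_iff_eq_mul] at this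
          exact this
        rw [MulAut.conj_apply, zpow_mul, zpow_ofNat, (hcm.zpow_left j).eq, mul_inv_cancel_right]
      rw [show i = i % 2 + 2 * (i / 2) from (Int.emod_add_mul_ediv i 2).symm, zpow_add, map_mul,
        MulAut.mul_apply, h2' c (Or.inl rfl)] at h1
      rw [show i = i % 2 + 2 * (i / 2) from (Int.emod_add_mul_ediv i 2).symm, zpow_add, map_mul,
        MulAut.mul_apply, h2' a (Or.inr rfl)] at h2
      rcases (show i % 2 = 0 ∨ i % 2 = 1 by omega) with h | h <;> rw [h] at h1 h2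
      · rw [zpow_zero, map_one, MulAut.one_apply] at h2
        exact hne h2.symm
      · rw [zpow_one, tc] at h1
        exact hc1 (hsq hcp (by nth_rewrite 1 [← h1]
                               exact inv_mul_cancel c))

theorem sylow_cyclic_case [IsSimpleGroup G] (hna : ¬ IsMulCommutative G) (hsn : SN G) {p : ℕ}
    [hp : Fact p.Prime] {x : G} (hxo : orderOf x = p) {b : G} (hnc : ¬ Comm (centralizer ({x} : Set G)))
    (hxb : x ∈ zpowers b) (hbC : b ∈ centralizer ({x} : Set G))
    (hSyl : ∀ Q : Subgroup G, IsPGroup p Q → zpowers b ≤ Q → Q ≤ centralizer ({x} : Set G) → Q = zpowers b)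
    (hbp : IsPGroup p (zpowers b))
    (hN : ∀ n ∈ centralizer ({x} : Set G), n ∈ normalizer ((zpowers b : Subgroup G) : Set G) → n * b = b * n) :
    False := by
  set C := centralizer ({x} : Set G) with hC
  have hx1 : x ≠ 1 := fun h => hp.out.ne_one (by rw [← hxo, h, orderOf_one])
  have hxp : x ^ p = 1 := hxo ▸ pow_orderOf_eq_one x
  have hNC : ∀ n ∈ normalizer ((zpowers b : Subgroup G) : Set G), n ∈ C := by
    intro n hn
    obtain ⟨i, hi⟩ := (mem_normalizer_iff.mp hn b).mp (mem_zpowers b)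
    obtain ⟨j, hj⟩ := hxb
    have hnx : n * x * n⁻¹ = x ^ i := by
      rw [← show b ^ j = x from hj, ← conj_zpow, ← show b ^ i = n * b * n⁻¹ from hi, ← zpow_mul, ← zpow_mul,
        mul_comm]
    obtain ⟨k, hk⟩ : ∃ k : ℤ, (x ^ i) ^ k = x := by
      rcases zpow_eq_one_or_gen hxp i with h | h
      · exact absurd (by rwa [h, mul_inv_eq_one, mul_eq_left] at hnx) hx1
      · exact h
    exact hsn C hnc n fun y hy => conj_mem_centralizer hnx hk hy
  obtain ⟨S, hS⟩ := hbp.exists_le_sylow
  have hSb : (S : Subgroup G) = zpowers b := by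
    by_contra hne
    haveI := S.isPGroup'.isNilpotent
    have hlt : (zpowers b).subgroupOf (S : Subgroup G) < ⊤ :=
      lt_top_iff_ne_top.mpr fun h => hne (le_antisymm (subgroupOf_eq_top.mp h) hS)
    obtain ⟨g, hg, hgR⟩ := SetLike.exists_of_lt (Group.normalizerCondition_of_isNilpotent _ hlt)
    have hgN : (g : G) ∈ normalizer ((zpowers b : Subgroup G) : Set G) :=
      Cfsg.Lib.Fusion.le_normalizer_of_conj_mem fun y hy =>
        mem_subgroupOf.mp ((mem_normalizer_iff.mp hg ⟨y, hS hy⟩).mp (mem_subgroupOf.mpr hy))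
    have hQ := hSyl ((S : Subgroup G) ⊓ C) (S.isPGroup'.to_le inf_le_left)
      (le_inf hS (zpowers_le.mpr hbC)) inf_le_right
    exact hgR (mem_subgroupOf.mpr (hQ ▸ mem_inf.mpr ⟨g.2, hNC _ hgN⟩))
  have hle : normalizer ((S : Subgroup G) : Set G) ≤ centralizer ((S : Subgroup G) : Set G) := by
    intro n hn
    rw [hSb] at hn ⊢
    refine mem_centralizer_iff.mpr ?_
    rintro _ ⟨i, rfl⟩
    exact ((show Commute n b from hN n (hNC n hn) hn).zpow_right i).eq.symm
  have hcompl := MonoidHom.ker_transferSylow_isComplement' S hle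
  rcases (inferInstance : (MonoidHom.transferSylow S hle).ker.Normal).eq_bot_or_eq_top with h | h
  · rw [h] at hcompl
    have : (S : Subgroup G) = ⊤ := by simpa using hcompl.sup_eq_top
    refine hna (comm_iff.mp ((comm_zpowers b).mono (hSb ▸ this.ge)) |> fun h => ⟨⟨fun y z => ?_⟩⟩)
    exact comm_zpowers b y (hSb ▸ this ▸ mem_top y) z (hSb ▸ this ▸ mem_top z)
  · rw [h] at hcompl
    have : (S : Subgroup G) = ⊥ := by simpa using hcompl.disjoint
    rw [hSb] at this
    exact hx1 (mem_bot.mp (this ▸ hxb))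

/-- All centralisers of non-identity elements are abelian. -/
theorem comm_centralizer [IsSimpleGroup G] (hna : ¬ IsMulCommutative G) (hsn : SN G) {x : G} (hx : x ≠ 1) :
    Comm (centralizer ({x} : Set G)) := by
  by_contra hnc
  obtain ⟨r, hr, hrd⟩ := Nat.exists_prime_and_dvd (mt orderOf_eq_one_iff.mp hx)
  haveI := Fact.mk hr
  set y := x ^ (orderOf x / r) with hy
  have hyo : orderOf y = r := orderOf_pow_orderOf_div (orderOf_pos x).ne' hrd
  have hy1 : y ≠ 1 := fun h => hr.ne_one (by rw [← hyo, h, orderOf_one])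
  have hle : centralizer ({x} : Set G) ≤ centralizer ({y} : Set G) := fun z hz =>
    mem_centralizer_singleton_iff.mpr
      ((show Commute z x from mem_centralizer_singleton_iff.mp hz).pow_right _).eq
  set C := centralizer ({y} : Set G) with hC
  have hncC : ¬ Comm C := fun h => hnc (h.mono hle)
  have hyC : y ∈ C := mem_centralizer_singleton_iff.mpr rfl
  have hsnC := hsn.subgroup C
  have hncT : ¬ Comm (⊤ : Subgroup C) := fun h => hncC fun a ha b hb =>
    congrArg Subtype.val (h ⟨a, ha⟩ (mem_top _) ⟨b, hb⟩ (mem_top _))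
  have hycen : (⟨y, hyC⟩ : C) ∈ center C :=
    mem_center_iff.mpr fun g => Subtype.ext (mem_centralizer_singleton_iff.mp g.2)
  have hnp : commutator C ≠ ⊤ := fun h => by
    have hb := hsnC.center_eq_bot h
    rw [hb, mem_bot] at hycen
    exact hy1 (congrArg Subtype.val hycen)
  rcases hsnC.structure hncT hnp with ⟨p, hp, hP⟩ | ⟨p, b, hp, ⟨P, hP⟩, hcen, hN⟩
  · haveI := Fact.mk hp
    exact false_of_centralizer_pgroup hna hsn hy1 hP hncC
  · haveI := Fact.mk hp
    have hyb := hcen hycen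
    have hbP : IsPGroup p (zpowers b) := hP ▸ P.isPGroup'
    have hrp : r = p := by
      obtain ⟨k, hk⟩ := hbP ⟨_, hyb⟩
      have h := orderOf_dvd_of_pow_eq_one (congrArg Subtype.val (congrArg Subtype.val hk) : y ^ p ^ k = 1)
      rw [hyo] at h
      exact (Nat.prime_dvd_prime_iff_eq hr hp).mp (hr.dvd_of_dvd_pow h)
    subst hrp
    have hmap : zpowers (b : G) = (zpowers b).map C.subtype := (MonoidHom.map_zpowers C.subtype b).symm
    refine sylow_cyclic_case hna hsn hyo hncC (b := (b : G)) ?_ b.2 ?_ ?_ ?_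
    · rw [hmap]; exact ⟨_, hyb, rfl⟩
    · intro Q hQ hbQ hQC
      refine le_antisymm ?_ hbQ
      have h1 : IsPGroup r (Q.subgroupOf C) := hQ.of_injective (subgroupOfEquivOfLe hQC).toMonoidHom
        (subgroupOfEquivOfLe hQC).injective
      have h2 := P.is_maximal' h1 (hP ▸ zpowers_le.mpr (mem_subgroupOf.mpr (hbQ (mem_zpowers _))))
      intro z hz
      rw [hmap]
      exact ⟨⟨z, hQC hz⟩, by rw [← hP, ← h2]; exact mem_subgroupOf.mpr hz, rfl⟩
    · rw [hmap]; exact hbP.map C.subtype
    · intro n hn hnN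
      refine congrArg Subtype.val (hN ⟨n, hn⟩ ?_)
      refine Cfsg.Lib.Fusion.le_normalizer_of_conj_mem fun z hz => ?_
      have h := (mem_normalizer_iff.mp hnN (z : G)).mp (hmap ▸ ⟨z, hz, rfl⟩)
      rw [hmap] at h
      obtain ⟨z', hz', he⟩ := h
      rwa [show (⟨n, hn⟩ : C) * z * (⟨n, hn⟩ : C)⁻¹ = z' from Subtype.ext he.symm]

end Cfsg.Lib.SelfNormNA
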