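import Mathlib
import Cfsg.Agent.S4216
import Cfsg.Agent.Lib.Fusion.Abelian

/-!
# Groups in which every non-abelian subgroup is self-normalising: basic facts
-/

set_option autoImplicit false
set_option linter.style.haveILetI false
set_option linter.unusedSectionVars false

namespace Cfsg.Lib.SelfNormNA

open Subgroup
open scoped commutatorElement

variable {G : Type*} [Group G]

/-- The elements of `H` commute pairwise. -/
def Comm (H : Subgroup G) : Prop := ∀ a ∈ H, ∀ b ∈ H, a * b = b * a

/-- Every non-abelian subgroup is its own normaliser, stated elementwise. -/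
def SN (G : Type*) [Group G] : Prop :=
  ∀ H : Subgroup G, ¬ Comm H → ∀ g : G, (∀ h ∈ H, g * h * g⁻¹ ∈ H) → g ∈ H

theorem comm_iff {H : Subgroup G} : Comm H ↔ IsMulCommutative H :=
  ⟨fun h => ⟨⟨fun a b => Subtype.ext (h a a.2 b b.2)⟩⟩,
    fun h a ha b hb => congrArg Subtype.val (h.is_comm.comm ⟨a, ha⟩ ⟨b, hb⟩)⟩

theorem sn_of_normalizer [Finite G]
    (h : ∀ H : Subgroup G, ¬ IsMulCommutative H → normalizer (H : Set G) = H) : SN G := by
  intro H hH g hg
  rw [← h H (fun hc => hH (comm_iff.mpr hc))]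
  exact Cfsg.Lib.Fusion.le_normalizer_of_conj_mem hg

theorem Comm.mono {H K : Subgroup G} (h : Comm K) (hle : H ≤ K) : Comm H :=
  fun a ha b hb => h a (hle ha) b (hle hb)

theorem comm_map {G' : Type*} [Group G'] (f : G →* G') {H : Subgroup G} (h : Comm H) : Comm (H.map f) := by
  rintro _ ⟨a, ha, rfl⟩ _ ⟨b, hb, rfl⟩
  rw [← map_mul, ← map_mul, h a ha b hb]

theorem SN.subgroup (h : SN G) (K : Subgroup G) : SN K := by
  intro H hH g hg
  have h' : ¬ Comm (H.map K.subtype) := fun hc => hH fun a ha b hb => Subtype.ext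
    (hc a ⟨a, ha, rfl⟩ b ⟨b, hb, rfl⟩)
  obtain ⟨y, hy, hye⟩ := h _ h' g (by rintro _ ⟨x, hx, rfl⟩; exact ⟨g * x * g⁻¹, hg x hx, rfl⟩)
  rwa [← Subtype.ext (hye : (y : G) = g)]

theorem SN.congr {G' : Type*} [Group G'] (h : SN G) (e : G ≃* G') : SN G' := by
  intro H hH g hg
  have h' : ¬ Comm (H.comap e.toMonoidHom) := fun hc => hH fun a ha b hb => by
    have := congrArg e (hc (e.symm a) (by simpa using ha) (e.symm b) (by simpa using hb))
    simpa using this
  have := h _ h' (e.symm g) (fun x hx => by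
    show e.toMonoidHom _ ∈ H
    simpa using hg _ hx)
  simpa using this

theorem comm_closure {S : Set G} (h : ∀ a ∈ S, ∀ b ∈ S, a * b = b * a) : Comm (closure S) :=
  comm_iff.mpr (isMulCommutative_closure h)

theorem comm_zpowers (a : G) : Comm (zpowers a) := by
  rintro _ ⟨i, rfl⟩ _ ⟨j, rfl⟩
  exact (zpow_mul_comm a i j)

/-- A proper subgroup of a non-abelian `p`-subgroup is abelian. -/
theorem SN.comm_of_lt [Finite G] {p : ℕ} [Fact p.Prime] (hsn : SN G) {P H : Subgroup G}
    (hP : IsPGroup p P) (hlt : H < P) : Comm H := by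
  by_contra hH
  haveI := hP.isNilpotent
  have hn := Group.normalizerCondition_of_isNilpotent (G := P) (H.subgroupOf P)
    (lt_top_iff_ne_top.mpr fun h => hlt.not_ge (subgroupOf_eq_top.mp h))
  obtain ⟨g, hg, hgH⟩ := SetLike.exists_of_lt hn
  refine hgH (mem_subgroupOf.mpr (hsn H hH g fun x hx => ?_))
  exact mem_subgroupOf.mp ((mem_normalizer_iff.mp hg ⟨x, hlt.le hx⟩).mp (mem_subgroupOf.mpr hx))

/-- A maximal subgroup that is normal with commutative quotient has prime index. -/
theorem index_prime_of_coatom [Finite G] {M : Subgroup G} [M.Normal] (hM : IsCoatom M)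
    (hc : commutator G ≤ M) : M.index.Prime := by
  haveI : IsMulCommutative (G ⧸ M) := Normal.quotient_commutative_iff_commutator_le.mpr hc
  letI : CommGroup (G ⧸ M) :=
    { (inferInstance : Group (G ⧸ M)) with mul_comm := fun a b => IsMulCommutative.is_comm.comm a b }
  haveI : Nontrivial (G ⧸ M) := QuotientGroup.nontrivial_iff.mpr hM.1
  haveI : IsSimpleGroup (G ⧸ M) := ⟨fun N _ => by
    rcases hM.le_iff.mp (QuotientGroup.le_comap_mk' M N) with h | h
    · refine Or.inr (eq_top_iff.mpr fun x _ => ?_)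
      obtain ⟨y, rfl⟩ := QuotientGroup.mk'_surjective M x
      exact (h.ge (mem_top y) : y ∈ N.comap (QuotientGroup.mk' M))
    · refine Or.inl (eq_bot_iff.mpr fun x hx => ?_)
      obtain ⟨y, rfl⟩ := QuotientGroup.mk'_surjective M x
      exact mem_bot.mpr ((QuotientGroup.eq_one_iff y).mpr (h.le hx))⟩
  exact IsSimpleGroup.prime_card

/-- A non-abelian `p`-group all of whose proper subgroups are abelian: the commutator of two
non-commuting elements is central of order `p` and generates the derived subgroup. -/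
theorem minimal_nonabelian {P : Type*} [Group P] [Finite P] {p : ℕ} [Fact p.Prime] (hP : IsPGroup p P)
    (hprop : ∀ H : Subgroup P, H ≠ ⊤ → Comm H) {a b : P} (hab : a * b ≠ b * a) :
    (∀ x : P, x * ⁅a, b⁆ = ⁅a, b⁆ * x) ∧ ⁅a, b⁆ ^ p = 1 ∧ commutator P ≤ zpowers ⁅a, b⁆ := by
  haveI := hP.isNilpotent
  have hnc : ¬ Comm (⊤ : Subgroup P) := fun h => hab (h a (mem_top a) b (mem_top b))
  have hcl : ∀ x y : P, x * y ≠ y * x → closure ({x, y} : Set P) = ⊤ := fun x y hxy => by
    by_contra h
    exact hxy (hprop _ h x (subset_closure (by simp)) y (subset_closure (by simp)))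
  have hmax : ∀ x : P, ∃ M : Subgroup P, x ∈ M ∧ IsCoatom M := fun x => by
    rcases eq_top_or_exists_le_coatom (zpowers x) with h | ⟨M, hM, hle⟩
    · exact absurd (h ▸ comm_zpowers x) hnc
    · exact ⟨M, hle (mem_zpowers x), hM⟩
  have hquot : ∀ M : Subgroup P, IsCoatom M → commutator P ≤ M ∧ ∀ x : P, x ^ p ∈ M := fun M hM => by
    haveI : M.Normal := NormalizerCondition.normal_of_coatom M Group.normalizerCondition_of_isNilpotent hM
    have hq : IsPGroup p (P ⧸ M) := hP.to_quotient M
    obtain ⟨k, hk⟩ := hq.exists_card_eq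
    have hsub : ∀ N : Subgroup (P ⧸ M), N = ⊥ ∨ N = ⊤ := fun N => by
      rcases hM.le_iff.mp (QuotientGroup.le_comap_mk' M N) with h | h
      · refine Or.inr (eq_top_iff.mpr fun x _ => ?_)
        obtain ⟨y, rfl⟩ := QuotientGroup.mk'_surjective M x
        exact (h.ge (mem_top y) : y ∈ N.comap (QuotientGroup.mk' M))
      · refine Or.inl (eq_bot_iff.mpr fun x hx => ?_)
        obtain ⟨y, rfl⟩ := QuotientGroup.mk'_surjective M x
        exact mem_bot.mpr ((QuotientGroup.eq_one_iff y).mpr (h.le hx))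
    have hk1 : k ≤ 1 := by
      by_contra h
      obtain ⟨N, hN⟩ := Sylow.exists_subgroup_card_pow_prime (G := P ⧸ M) p (n := 1)
        (hk ▸ pow_dvd_pow p (by omega))
      rcases hsub N with rfl | rfl
      · rw [card_bot, pow_one] at hN
        exact (Fact.out : p.Prime).ne_one hN.symm
      · rw [card_top, hk] at hN
        have := Nat.pow_right_injective (Fact.out : p.Prime).two_le hN
        omega
    have hd : Nat.card (P ⧸ M) ∣ p := hk ▸ (pow_dvd_pow p hk1).trans (pow_one p).dvd
    refine ⟨Normal.quotient_commutative_iff_commutator_le.mp ?_, fun x => ?_⟩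
    · rcases (Nat.dvd_prime (Fact.out : p.Prime)).mp hd with h | h
      · haveI := (Nat.card_eq_one_iff_unique.mp h).1
        exact ⟨⟨fun _ _ => Subsingleton.elim _ _⟩⟩
      · haveI := isCyclic_of_prime_card h
        exact ⟨⟨fun x y => by
          obtain ⟨g, hg⟩ := IsCyclic.exists_generator (α := P ⧸ M)
          exact comm_zpowers g x (hg x) y (hg y)⟩⟩
    · rw [← QuotientGroup.eq_one_iff, QuotientGroup.mk_pow]
      exact orderOf_dvd_iff_pow_eq_one.mp ((_root_.orderOf_dvd_natCard _).trans hd)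
  obtain ⟨A, haA, hA⟩ := hmax a
  obtain ⟨B, hbB, hB⟩ := hmax b
  have hAc := hprop A hA.1
  have hBc := hprop B hB.1
  have hAB : A ⊔ B = ⊤ := by
    refine hA.sup_eq_top_of_ne hB fun h => hab (hAc a haA b (h ▸ hbB))
  have hcent : ∀ z, z ∈ A → z ∈ B → ∀ x : P, x * z = z * x := fun z h1 h2 x => by
    have h3 : A ⊔ B ≤ centralizer ({z} : Set P) :=
      sup_le (fun y hy => mem_centralizer_singleton_iff.mpr (hAc y hy z h1))
        (fun y hy => mem_centralizer_singleton_iff.mpr (hBc y hy z h2))
    exact mem_centralizer_singleton_iff.mp (h3 (hAB ▸ mem_top x))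
  set c := ⁅a, b⁆ with hc
  have hcP : c ∈ commutator P := commutator_mem_commutator (mem_top a) (mem_top b)
  have hcc : ∀ x : P, x * c = c * x := hcent c ((hquot A hA).1 hcP) ((hquot B hB).1 hcP)
  have hap : ∀ x : P, x * a ^ p = a ^ p * x := hcent _ (pow_mem haA p) ((hquot B hB).2 a)
  have hconj : b * a * b⁻¹ = c⁻¹ * a := by rw [hc, commutatorElement_def]; group
  have hcp : c ^ p = 1 := by
    have h1 : b * a ^ p * b⁻¹ = c⁻¹ ^ p * a ^ p := by
      rw [← conj_pow, hconj, Commute.mul_pow]
      exact (show Commute c a from (hcc a).symm).inv_left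
    rw [hap b, mul_inv_cancel_right] at h1
    have h2 : c⁻¹ ^ p = 1 := mul_eq_right.mp h1.symm
    rwa [inv_pow, inv_eq_one] at h2
  refine ⟨hcc, hcp, ?_⟩
  haveI : (zpowers c).Normal := ⟨fun n hn g => by
    obtain ⟨i, rfl⟩ := hn
    show g * c ^ i * g⁻¹ ∈ _
    rw [(show Commute g c from hcc g).zpow_right i, mul_inv_cancel_right]
    exact zpow_mem (mem_zpowers c) i⟩
  refine Normal.quotient_commutative_iff_commutator_le.mp ⟨⟨fun x y => ?_⟩⟩
  have key : Comm ((closure ({a, b} : Set P)).map (QuotientGroup.mk' (zpowers c))) := by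
    rw [MonoidHom.map_closure]
    refine comm_closure ?_
    have e : QuotientGroup.mk' (zpowers c) a * QuotientGroup.mk' (zpowers c) b =
        QuotientGroup.mk' (zpowers c) b * QuotientGroup.mk' (zpowers c) a := by
      rw [← commutatorElement_eq_one_iff_mul_comm, ← map_commutatorElement]
      exact (QuotientGroup.eq_one_iff _).mpr (mem_zpowers c)
    simp only [Set.image_insert_eq, Set.image_singleton, Set.mem_insert_iff, Set.mem_singleton_iff]
    rintro _ (rfl | rfl) _ (rfl | rfl)
    exacts [rfl, e, e.symm, rfl]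
  rw [hcl a b hab, Subgroup.map_top_of_surjective _ (QuotientGroup.mk'_surjective _)] at key
  exact key x (mem_top x) y (mem_top y)

end Cfsg.Lib.SelfNormNA
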