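import Cfsg.Agent.Lib.SelfNormNA.Basic

/-!
# A self-normalising minimal non-abelian Sylow subgroup of a perfect group
-/

set_option autoImplicit false
set_option linter.style.haveILetI false
set_option linter.unusedSectionVars false

namespace Cfsg.Lib.SelfNormNA

open Subgroup
open scoped commutatorElement

variable {G : Type*} [Group G] [Finite G] {p : ℕ} [Fact p.Prime]

/-- Minimal non-abelian structure of a subgroup, stated inside the ambient group. -/
theorem SN.subgroup_minimal_nonabelian (hsn : SN G) {P : Subgroup G} (hP : IsPGroup p P)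
    {a b : G} (ha : a ∈ P) (hb : b ∈ P) (hab : a * b ≠ b * a) :
    closure ({a, b} : Set G) = P ∧ (∀ x ∈ P, x * ⁅a, b⁆ = ⁅a, b⁆ * x) ∧ ⁅a, b⁆ ^ p = 1 ∧
      (∀ x ∈ P, ∀ y ∈ P, ⁅x, y⁆ ∈ zpowers ⁅a, b⁆) := by
  have hprop : ∀ H : Subgroup P, H ≠ ⊤ → Comm H := fun H hH x hx y hy => Subtype.ext <| by
    have hlt : H.map P.subtype < P := lt_of_le_of_ne (map_subtype_le H) fun h => hH (by
      rw [← comap_map_eq_self_of_injective P.subtype_injective H, h]
      exact subgroupOf_self P)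
    exact hsn.comm_of_lt hP hlt x ⟨x, hx, rfl⟩ y ⟨y, hy, rfl⟩
  have hab' : (⟨a, ha⟩ : P) * ⟨b, hb⟩ ≠ ⟨b, hb⟩ * ⟨a, ha⟩ := fun h => hab (congrArg Subtype.val h)
  obtain ⟨h1, h2, h3⟩ := minimal_nonabelian hP hprop hab'
  refine ⟨?_, fun x hx => congrArg Subtype.val (h1 ⟨x, hx⟩), congrArg Subtype.val h2, fun x hx y hy => ?_⟩
  · by_contra hne
    have hle : closure ({a, b} : Set G) ≤ P := (closure_le P).mpr (by
      rintro _ (rfl | rfl) <;> assumption)
    exact hab (hsn.comm_of_lt hP (lt_of_le_of_ne hle hne) a (subset_closure (by simp)) b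
      (subset_closure (by simp)))
  · obtain ⟨i, hi⟩ := h3 (commutator_mem_commutator (mem_top (⟨x, hx⟩ : P)) (mem_top (⟨y, hy⟩ : P)))
    exact ⟨i, congrArg Subtype.val hi⟩

theorem zpow_eq_one_or_gen {c : G} (hc : c ^ p = 1) (i : ℤ) :
    c ^ i = 1 ∨ ∃ k : ℤ, (c ^ i) ^ k = c := by
  by_cases h : c ^ i = 1
  · exact Or.inl h
  refine Or.inr ?_
  have hco : IsCoprime (p : ℤ) i := by
    refine (Nat.prime_iff_prime_int.mp (Fact.out : p.Prime)).coprime_iff_not_dvd.mpr ?_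
    rintro ⟨t, rfl⟩
    exact h (by rw [zpow_mul, zpow_natCast, hc, one_zpow])
  obtain ⟨u, v, huv⟩ := hco
  refine ⟨v, ?_⟩
  calc (c ^ i) ^ v = (c ^ (p : ℤ)) ^ u * (c ^ i) ^ v := by rw [zpow_natCast, hc, one_zpow, one_mul]
    _ = c ^ (u * (p : ℤ) + v * i) := by rw [zpow_add, ← zpow_mul, ← zpow_mul, mul_comm _ u, mul_comm _ v]
    _ = c := by rw [huv, zpow_one]

/-- For a self-normalising non-abelian Sylow subgroup of a perfect group, the centre has order `p`
and some non-central element of the subgroup is conjugate to a central one. -/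
theorem SN.sylow_configuration (hsn : SN G) (hperf : commutator G = ⊤) (P : Sylow p G)
    (hP : ¬ Comm (P : Subgroup G)) :
    ∃ c a g : G, c ∈ (P : Subgroup G) ∧ a ∈ (P : Subgroup G) ∧ c ≠ 1 ∧ c ^ p = 1 ∧
      (∀ x ∈ (P : Subgroup G), x * c = c * x) ∧
      (∀ z ∈ (P : Subgroup G), (∀ x ∈ (P : Subgroup G), x * z = z * x) → z ∈ zpowers c) ∧
      (∀ x ∈ (P : Subgroup G), ∀ y ∈ (P : Subgroup G), ⁅x, y⁆ ∈ zpowers c) ∧
      a ∉ zpowers c ∧ a = g * c * g⁻¹ := by
  have hN : normalizer ((P : Subgroup G) : Set G) = (P : Subgroup G) :=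
    le_antisymm (fun x hx => hsn _ hP x fun h hh => (mem_normalizer_iff.mp hx h).mp hh) le_normalizer
  set T : Set G := {x | x ∈ (P : Subgroup G) ∧ ∃ g : G, ∃ y ∈ ⁅(P : Subgroup G), (P : Subgroup G)⁆, x = g * y * g⁻¹}
    with hT
  have hgen : (P : Subgroup G) ≤ closure T := by
    have h := Cfsg.Agent.S4216.result P
    rw [hperf, inf_top_eq, hN] at h
    rw [h]
    refine sup_le ?_ (iSup_le fun z => ?_)
    · exact fun x hx => subset_closure ⟨hx.1, 1, x, hx.2, by group⟩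
    · rintro x ⟨hx, y, hy, rfl⟩
      exact subset_closure ⟨hx, z, y, hy, rfl⟩
  obtain ⟨a₀, ha₀, b₀, hb₀, hab₀⟩ : ∃ a ∈ (P : Subgroup G), ∃ b ∈ (P : Subgroup G), a * b ≠ b * a := by
    simpa [Comm] using hP
  obtain ⟨-, -, hcp₀, hder₀⟩ := hsn.subgroup_minimal_nonabelian P.isPGroup' ha₀ hb₀ hab₀
  have hder : ⁅(P : Subgroup G), (P : Subgroup G)⁆ ≤ zpowers ⁅a₀, b₀⁆ := commutator_le.mpr hder₀
  have hTp : ∀ x ∈ T, x ^ p = 1 := by
    rintro x ⟨-, g, y, hy, rfl⟩
    obtain ⟨i, rfl⟩ := hder hy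
    rw [conj_pow]
    show g * (⁅a₀, b₀⁆ ^ i) ^ p * g⁻¹ = 1
    rw [← zpow_natCast, zpow_comm, zpow_natCast, hcp₀, one_zpow, mul_one, mul_inv_cancel]
  obtain ⟨u, hu, v, hv, huv⟩ : ∃ u ∈ T, ∃ v ∈ T, u * v ≠ v * u := by
    by_contra h
    push Not at h
    exact hP ((comm_closure h).mono hgen)
  obtain ⟨hcl, hcc, hcp, hcd⟩ := hsn.subgroup_minimal_nonabelian P.isPGroup' hu.1 hv.1 huv
  set c := ⁅u, v⁆ with hc
  have hc1 : c ≠ 1 := fun h => huv (commutatorElement_eq_one_iff_mul_comm.mp h)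
  have hcP : c ∈ (P : Subgroup G) := by
    rw [hc, commutatorElement_def]
    exact mul_mem (mul_mem (mul_mem hu.1 hv.1) (inv_mem hu.1)) (inv_mem hv.1)
  -- normal form
  have hform : ∀ x ∈ (P : Subgroup G), ∃ i j k : ℤ, x = u ^ i * v ^ j * c ^ k := by
    intro x hx
    have hmem : x ∈ closure ({u, v} : Set G) := hcl.symm ▸ hx
    haveI : ((zpowers c).subgroupOf (P : Subgroup G)).Normal := ⟨fun n hn g => by
      obtain ⟨i, hi⟩ := mem_subgroupOf.mp hn
      refine mem_subgroupOf.mpr ⟨i, ?_⟩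
      show c ^ i = (g : G) * (n : G) * (g : G)⁻¹
      rw [← hi]
      show c ^ i = (g : G) * c ^ i * (g : G)⁻¹
      rw [(show Commute (g : G) c from hcc g g.2).zpow_right i, mul_inv_cancel_right]⟩
    have hvu : ∀ i j : ℤ, ∃ k : ℤ, v ^ j * u ^ i = u ^ i * v ^ j * c ^ k := by
      intro i j
      obtain ⟨k, hk⟩ := hcd _ (inv_mem (zpow_mem hv.1 j)) _ (inv_mem (zpow_mem hu.1 i))
      refine ⟨k, ?_⟩
      show _ = u ^ i * v ^ j * c ^ k
      rw [show c ^ k = ⁅(v ^ j)⁻¹, (u ^ i)⁻¹⁆ from hk, commutatorElement_def]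
      group
    have hcom : ∀ (k : ℤ), ∀ y ∈ (P : Subgroup G), c ^ k * y = y * c ^ k := fun k y hy =>
      ((show Commute y c from hcc y hy).zpow_right k).symm.eq
    induction hmem using closure_induction with
    | mem y hy =>
      rcases hy with rfl | rfl
      · exact ⟨1, 0, 0, by group⟩
      · exact ⟨0, 1, 0, by group⟩
    | one => exact ⟨0, 0, 0, by group⟩
    | mul y z hy hz ihy ihz =>
      obtain ⟨i, j, k, rfl⟩ := ihy (hcl ▸ hy)
      obtain ⟨i', j', k', rfl⟩ := ihz (hcl ▸ hz)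
      obtain ⟨m, hm⟩ := hvu i' j
      refine ⟨i + i', j + j', m + (k + k'), ?_⟩
      calc u ^ i * v ^ j * c ^ k * (u ^ i' * v ^ j' * c ^ k')
          = u ^ i * v ^ j * (c ^ k * (u ^ i' * v ^ j')) * c ^ k' := by group
        _ = u ^ i * (v ^ j * u ^ i') * v ^ j' * (c ^ k * c ^ k') := by
          rw [hcom k _ (mul_mem (zpow_mem hu.1 _) (zpow_mem hv.1 _))]; group
        _ = u ^ i * u ^ i' * v ^ j * (c ^ m * v ^ j') * (c ^ k * c ^ k') := by rw [hm]; group
        _ = _ := by rw [hcom m _ (zpow_mem hv.1 _)]; group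
    | inv y hy ihy =>
      obtain ⟨i, j, k, rfl⟩ := ihy (hcl ▸ hy)
      obtain ⟨m, hm⟩ := hvu (-i) (-j)
      refine ⟨-i, -j, m - k, ?_⟩
      calc (u ^ i * v ^ j * c ^ k)⁻¹ = c ^ (-k) * (v ^ (-j) * u ^ (-i)) := by group
        _ = v ^ (-j) * u ^ (-i) * c ^ (-k) :=
          hcom (-k) _ (mul_mem (zpow_mem hv.1 _) (zpow_mem hu.1 _))
        _ = _ := by rw [hm]; group
  have hcen : ∀ z ∈ (P : Subgroup G), (∀ x ∈ (P : Subgroup G), x * z = z * x) → z ∈ zpowers c := by
    intro z hz hzc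
    obtain ⟨i, j, k, rfl⟩ := hform z hz
    have hvuv : v * u * v⁻¹ = c⁻¹ * u := by rw [hc, commutatorElement_def]; group
    have huvu : u * v * u⁻¹ = c * v := by rw [hc, commutatorElement_def]; group
    have hcomu : Commute u c := hcc u hu.1
    have hcomv : Commute v c := hcc v hv.1
    have hi : c ^ i = 1 := by
      have h2 : u ^ i * v ^ j * c ^ k = v * (u ^ i * v ^ j * c ^ k) * v⁻¹ := by
        rw [hzc v hv.1, mul_inv_cancel_right]
      have h3 : v * u ^ i * v⁻¹ = c⁻¹ ^ i * u ^ i := by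
        rw [← conj_zpow, hvuv, Commute.mul_zpow]
        exact hcomu.symm.inv_left
      have h4 : v * (u ^ i * v ^ j * c ^ k) * v⁻¹ = c⁻¹ ^ i * (u ^ i * v ^ j * c ^ k) := by
        calc v * (u ^ i * v ^ j * c ^ k) * v⁻¹ = (v * u ^ i * v⁻¹) * (v ^ j * (v * c ^ k * v⁻¹)) := by group
          _ = _ := by rw [h3, (hcomv.zpow_right k).eq, mul_inv_cancel_right]; group
      rw [h4] at h2
      have h5 := (mul_eq_right.mp h2.symm : c⁻¹ ^ i = 1)
      rwa [inv_zpow, inv_eq_one] at h5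
    have hj : c ^ j = 1 := by
      have h2 : u ^ i * v ^ j * c ^ k = u * (u ^ i * v ^ j * c ^ k) * u⁻¹ := by
        rw [hzc u hu.1, mul_inv_cancel_right]
      have h3 : u * v ^ j * u⁻¹ = c ^ j * v ^ j := by
        rw [← conj_zpow, huvu, Commute.mul_zpow]
        exact hcomv.symm
      have h4 : u * (u ^ i * v ^ j * c ^ k) * u⁻¹ = c ^ j * (u ^ i * v ^ j * c ^ k) := by
        calc u * (u ^ i * v ^ j * c ^ k) * u⁻¹ = u ^ i * (u * v ^ j * u⁻¹) * (u * c ^ k * u⁻¹) := by group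
          _ = u ^ i * (c ^ j * v ^ j) * c ^ k := by
            rw [h3, (hcomu.zpow_right k).eq, mul_inv_cancel_right]
          _ = c ^ j * u ^ i * v ^ j * c ^ k := by
            rw [← mul_assoc, ((hcomu.zpow_left i).zpow_right j).eq]
          _ = _ := by group
      rw [h4] at h2
      exact mul_eq_right.mp h2.symm
    have hdvd : ∀ n : ℤ, c ^ n = 1 → ∀ w : G, w ^ p = 1 → w ^ n = 1 := by
      intro n hn w hw
      have ho : orderOf c = p := orderOf_eq_prime hcp hc1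
      obtain ⟨t, rfl⟩ := ho ▸ orderOf_dvd_iff_zpow_eq_one.mpr hn
      rw [zpow_mul, zpow_natCast, hw, one_zpow]
    exact ⟨k, by rw [hdvd i hi u (hTp u hu), hdvd j hj v (hTp v hv), one_mul, one_mul]⟩
  obtain ⟨x, hxT, hx⟩ : ∃ x ∈ T, x ∉ zpowers c := by
    by_contra h
    push Not at h
    exact hP ((comm_zpowers c).mono (hgen.trans ((closure_le _).mpr h)))
  obtain ⟨hxP, g, y, hy, rfl⟩ := hxT
  obtain ⟨i, rfl⟩ := (commutator_le.mpr hcd : ⁅(P : Subgroup G), (P : Subgroup G)⁆ ≤ zpowers c) hy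
  rcases zpow_eq_one_or_gen hcp i with h | ⟨k, hk⟩
  · exact absurd (by simp [h]) hx
  · refine ⟨c, g * c * g⁻¹, g, hcP, ?_, hc1, hcp, hcc, hcen, hcd, fun ha => hx ?_, rfl⟩
    · rw [← hk, ← conj_zpow]
      exact zpow_mem hxP k
    · rw [← conj_zpow]
      exact zpow_mem ha i

/-- A perfect group with the property has trivial centre. -/
theorem SN.center_eq_bot (hsn : SN G) (hperf : commutator G = ⊤) : center G = ⊥ := by
  by_contra h
  haveI : Nontrivial (center G) := (nontrivial_iff_ne_bot _).mpr h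
  set p := (Nat.card (center G)).minFac
  have hp : p.Prime := Nat.minFac_prime Finite.one_lt_card.ne'
  haveI := Fact.mk hp
  obtain ⟨⟨z, hz⟩, hzo⟩ := exists_prime_orderOf_dvd_card' (G := center G) p (Nat.minFac_dvd _)
  rw [orderOf_mk] at hzo
  obtain ⟨P, hP⟩ := (IsPGroup.of_card (p := p) (n := 1) (G := zpowers z)
    (by rw [Nat.card_zpowers, hzo, pow_one])).exists_le_sylow
  have hzP := hP (mem_zpowers z)
  have hz1 : z ≠ 1 := fun h' => hp.ne_one (by rw [← hzo, h', orderOf_one])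
  by_cases hc : Comm (P : Subgroup G)
  · haveI := comm_iff.mp hc
    letI : CommGroup (P : Subgroup G) :=
      { (inferInstance : Group (P : Subgroup G)) with mul_comm := fun a b => Subtype.ext (hc a a.2 b b.2) }
    let f := MonoidHom.transfer (MonoidHom.id (P : Subgroup G))
    have h1 : f z = 1 := by
      have : commutator G ≤ f.ker := Abelianization.commutator_subset_ker f
      exact MonoidHom.mem_ker.mp (this (hperf ▸ mem_top z))
    have key : ∀ (k : ℕ) (g₀ : G), g₀⁻¹ * z ^ k * g₀ ∈ (P : Subgroup G) → g₀⁻¹ * z ^ k * g₀ = z ^ k :=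
      fun k g₀ _ => by
        rw [mul_assoc, ← mem_center_iff.mp (pow_mem hz k) g₀, ← mul_assoc, inv_mul_cancel, one_mul]
    rw [MonoidHom.transfer_eq_pow _ z key] at h1
    have h2 : z ^ (P : Subgroup G).index = 1 := congrArg Subtype.val h1
    have h3 := orderOf_dvd_of_pow_eq_one h2
    rw [hzo] at h3
    exact P.not_dvd_index h3
  · obtain ⟨c, a, g, -, -, hc1, hcp, -, hcen, -, ha, rfl⟩ := hsn.sylow_configuration hperf P hc
    obtain ⟨i, hi⟩ := hcen z hzP fun x _ => mem_center_iff.mp hz x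
    rcases zpow_eq_one_or_gen hcp i with h' | ⟨k, hk⟩
    · exact hz1 (hi ▸ h')
    · have hcz : c ∈ center G := by
        rw [← hk, show c ^ i = z from hi]
        exact zpow_mem hz k
      exact ha (by rw [mem_center_iff.mp hcz g, mul_inv_cancel_right]; exact mem_zpowers c)

end Cfsg.Lib.SelfNormNA
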