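import Cfsg.Agent.Lib.SelfNormNA.CA
import Cfsg.Agent.S0182
import Cfsg.Agent.S2202
import Cfsg.Agent.Lib.Spec.SLTwo
import Cfsg.Agent.Lib.Dickson.Solvable

/-!
# A simple group with the property is `PSL(2, 2^n)` with `2^n - 1` prime
-/

set_option autoImplicit false
set_option linter.style.haveILetI false
set_option linter.unusedSectionVars false

namespace Cfsg.Lib.SelfNormNA

open Subgroup Matrix
open scoped MatrixGroups

variable {F : Type*} [Field F] [Fintype F]

/-- Upper triangular matrices with diagonal entry in a given subgroup of the units. -/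
def borelOver (K : Subgroup Fˣ) : Subgroup SL(2, F) where
  carrier := {g | g 1 0 = 0 ∧ ∃ k ∈ K, (k : F) = g 0 0}
  one_mem' := ⟨by simp, 1, one_mem K, by simp⟩
  mul_mem' := by
    rintro x y ⟨hx, k, hk, hkx⟩ ⟨hy, l, hl, hly⟩
    refine ⟨?_, k * l, mul_mem hk hl, ?_⟩
    · simp [Matrix.mul_apply, Fin.sum_univ_two, hx, hy]
    · simp [Matrix.mul_apply, Fin.sum_univ_two, hy, hkx, hly]
  inv_mem' := by
    rintro x ⟨hx, k, hk, hkx⟩
    have hd := x.2
    rw [Matrix.det_fin_two, hx, mul_zero, sub_zero, ← hkx] at hd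
    refine ⟨?_, k⁻¹, inv_mem hk, ?_⟩
    · simp [Matrix.SpecialLinearGroup.coe_inv, Matrix.adjugate_fin_two, hx]
    · simp [Matrix.SpecialLinearGroup.coe_inv, Matrix.adjugate_fin_two]
      exact inv_eq_of_mul_eq_one_right hd

/-- The diagonal matrix with entries `a`, `a⁻¹`. -/
def diagSL (a : Fˣ) : SL(2, F) := ⟨!![(a : F), 0; 0, (a⁻¹ : Fˣ)], by simp [Matrix.det_fin_two_of]⟩

theorem coe_diagSL (a : Fˣ) : (diagSL a : Matrix (Fin 2) (Fin 2) F) = !![(a : F), 0; 0, (a⁻¹ : Fˣ)] := rfl

theorem diag_mem_borelOver {K : Subgroup Fˣ} {a : Fˣ} : diagSL a ∈ borelOver K ↔ a ∈ K := by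
  refine ⟨?_, fun h => ⟨by simp [diagSL], a, h, by simp [diagSL]⟩⟩
  rintro ⟨-, k, hk, he⟩
  simp [diagSL] at he
  rwa [← Units.ext he]

theorem isSimpleGroup_units [CharP F 2] (h4 : 4 ≤ Fintype.card F) (hsn : SN SL(2, F)) :
    IsSimpleGroup Fˣ := by
  haveI : Nontrivial Fˣ := by
    rw [← Finite.one_lt_card_iff_nontrivial, Nat.card_units, Nat.card_eq_fintype_card]
    omega
  refine ⟨fun K _ => ?_⟩
  rcases K.bot_or_exists_ne_one with h | ⟨k, hk, hk1⟩
  · exact Or.inl h
  refine Or.inr (eq_top_iff.mpr fun a _ => ?_)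
  refine diag_mem_borelOver.mp (hsn (borelOver K) (fun hc => ?_) (diagSL a) ?_)
  · let t : SL(2, F) := ⟨!![1, 1; 0, 1], by simp [Matrix.det_fin_two_of]⟩
    have ht : t ∈ borelOver K := ⟨by simp [t], 1, one_mem K, by simp [t]⟩
    have h := congrArg (fun g : SL(2, F) => (g : Matrix (Fin 2) (Fin 2) F) 0 1)
      (hc _ (diag_mem_borelOver.mpr hk) t ht)
    have htc : (t : Matrix (Fin 2) (Fin 2) F) = !![1, 1; 0, 1] := rfl
    simp [coe_diagSL, htc, Matrix.SpecialLinearGroup.coe_mul, Matrix.mul_apply, Fin.sum_univ_two] at h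
    have h2 : (k : F) * k = 1 := by
      nth_rewrite 2 [h]
      exact mul_inv_cancel₀ k.ne_zero
    refine hk1 (Units.ext ?_)
    rcases mul_self_eq_one_iff.mp h2 with h1 | h1
    · simpa using h1
    · rw [h1]; simp [CharTwo.neg_eq]
  · rintro h ⟨h10, l, hl, hlh⟩
    refine ⟨?_, l, hl, ?_⟩
    · simp [coe_diagSL, Matrix.SpecialLinearGroup.coe_mul, Matrix.mul_apply, Fin.sum_univ_two, Matrix.SpecialLinearGroup.coe_inv,
        Matrix.adjugate_fin_two, Matrix.vecMul, dotProduct, h10]
    · simp [coe_diagSL, Matrix.SpecialLinearGroup.coe_mul, Matrix.mul_apply, Fin.sum_univ_two, Matrix.SpecialLinearGroup.coe_inv,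
        Matrix.adjugate_fin_two, Matrix.vecMul, dotProduct, hlh]
      rw [mul_comm (a : F), mul_assoc, mul_inv_cancel₀ a.ne_zero, mul_one]

theorem four_le_card_of_simple {G : Type*} [Group G] [Finite G] [IsSimpleGroup G] [CharP F 2]
    (hna : ¬ IsMulCommutative G) (e : G ≃* SL(2, F)) : 4 ≤ Fintype.card F := by
  obtain ⟨n, -, hn⟩ := FiniteField.card F 2
  by_contra h
  have hn1 : (n : ℕ) = 1 := by
    have h0 := n.pos
    by_contra hne
    have : 2 ^ 2 ≤ Fintype.card F := hn ▸ Nat.pow_le_pow_right two_pos (by omega)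
    omega
  have hcard : Nat.card G = 6 := by
    rw [Nat.card_congr e.toEquiv, Cfsg.Lib.Linear.Two.card_SL_two, hn, hn1]
    norm_num
  haveI : Fact (Nat.Prime 3) := ⟨by norm_num⟩
  obtain ⟨P⟩ : Nonempty (Sylow 3 G) := inferInstance
  have hP : Nat.card (P : Subgroup G) = 3 := by
    rw [P.card_eq_multiplicity, hcard]
    rw [show (6 : ℕ).factorization 3 = 1 by
      rw [show (6 : ℕ) = 3 ^ 1 * 2 by norm_num, Nat.factorization_mul (by norm_num) (by norm_num),
        Finsupp.coe_add, Pi.add_apply, Nat.Prime.factorization_pow (by norm_num)]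
      simp [Nat.factorization_eq_zero_of_not_dvd (show ¬ 3 ∣ 2 by norm_num)]]
    norm_num
  have hi : (P : Subgroup G).index = 2 := by
    have h' := (P : Subgroup G).card_mul_index
    rw [hP, hcard] at h'
    omega
  haveI := normal_of_index_eq_two hi
  rcases (inferInstance : (P : Subgroup G).Normal).eq_bot_or_eq_top with h' | h'
  · rw [h', card_bot] at hP; omega
  · rw [h', card_top, hcard] at hP; omega

theorem forward {G : Type*} [Group G] [Finite G] [IsSimpleGroup G] (hna : ¬ IsMulCommutative G)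
    (hsn : SN G) : ∃ n : ℕ, 2 ≤ n ∧ (2 ^ n - 1).Prime ∧
      Nonempty (G ≃* Matrix.ProjectiveSpecialLinearGroup (Fin 2) (GaloisField 2 n)) := by
  have hCA : ∀ x : G, x ≠ 1 → Comm (centralizer ({x} : Set G)) := fun x hx => comm_centralizer hna hsn hx
  rcases (Nat.card G).even_or_odd with heven | hodd
  swap
  · haveI := Cfsg.Agent.S0182.result hodd hCA
    exact absurd ⟨⟨IsSimpleGroup.comm_iff_isSolvable.mpr this⟩⟩ hna
  have hinv : ∀ t : G, orderOf t = 2 → IsMulCommutative ↥(centralizer ({t} : Set G)) := fun t ht =>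
    comm_iff.mp (hCA t fun h => by simp [h] at ht)
  rcases Cfsg.Agent.S2202.result heven hinv with hcyc | hnorm | ⟨F, _, _, A, _, _, hchar, -, ⟨e⟩⟩
  · haveI : Fact (Nat.Prime 2) := ⟨Nat.prime_two⟩
    obtain ⟨P⟩ : Nonempty (Sylow 2 G) := inferInstance
    have hmin : (Nat.card G).minFac = 2 := (Nat.minFac_eq_two_iff _).mpr heven.two_dvd
    have hcompl := IsCyclic.isComplement' hmin (hcyc P)
    rcases (inferInstance : (MonoidHom.transferSylow P
        ((hcyc P).normalizer_le_centralizer hmin)).ker.Normal).eq_bot_or_eq_top with h | h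
    · rw [h] at hcompl
      have hP : (P : Subgroup G) = ⊤ := by simpa using hcompl.sup_eq_top
      refine absurd ?_ hna
      refine ⟨⟨fun a b => ?_⟩⟩
      obtain ⟨g, hg⟩ := (hcyc P).exists_generator
      exact congrArg Subtype.val (comm_zpowers g ⟨a, hP.ge (mem_top a)⟩ (hg _) ⟨b, hP.ge (mem_top b)⟩ (hg _))
    · rw [h] at hcompl
      have hP : (P : Subgroup G) = ⊥ := by simpa using hcompl.disjoint
      have := P.dvd_card_of_dvd_card heven.two_dvd
      rw [hP, card_bot] at this
      omega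
  · haveI : Fact (Nat.Prime 2) := ⟨Nat.prime_two⟩
    obtain ⟨P⟩ : Nonempty (Sylow 2 G) := inferInstance
    rcases (hnorm P).eq_bot_or_eq_top with hP | hP
    · have := P.dvd_card_of_dvd_card heven.two_dvd
      rw [hP, card_bot] at this
      omega
    · refine absurd ?_ hna
      haveI : Group.IsNilpotent G := by
        have hG : IsPGroup 2 G := fun g => by
          obtain ⟨k, hk⟩ := P.isPGroup' ⟨g, hP ▸ mem_top g⟩
          exact ⟨k, congrArg Subtype.val hk⟩
        exact hG.isNilpotent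
      exact ⟨⟨IsSimpleGroup.comm_iff_isSolvable.mpr inferInstance⟩⟩
  · haveI := hchar
    have hA : Subsingleton A := by
      rcases (inferInstance : ((MonoidHom.snd SL(2, F) A).comp e.toMonoidHom).ker.Normal).eq_bot_or_eq_top with
        h | h
      · refine absurd ⟨⟨fun a b => ?_⟩⟩ hna
        apply (MonoidHom.ker_eq_bot_iff _).mp h
        rw [map_mul, map_mul, mul_comm]
      · refine ⟨fun a b => ?_⟩
        have key : ∀ c : A, c = 1 := fun c => by
          have := MonoidHom.mem_ker.mp (h ▸ mem_top (e.symm (1, c)))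
          simpa using this
        rw [key a, key b]
    haveI := hA
    let e' : G ≃* SL(2, F) := e.trans
      { toFun := Prod.fst
        invFun := fun g => (g, 1)
        left_inv := fun x => Prod.ext rfl (Subsingleton.elim _ _)
        right_inv := fun _ => rfl
        map_mul' := fun _ _ => rfl }
    have h4 := four_le_card_of_simple hna e'
    haveI := isSimpleGroup_units h4 (hsn.congr e')
    obtain ⟨n, -, hn⟩ := FiniteField.card F 2
    have hprime : (2 ^ (n : ℕ) - 1).Prime := by
      have := IsSimpleGroup.prime_card (α := Fˣ)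
      rwa [Nat.card_units, Nat.card_eq_fintype_card, hn] at this
    refine ⟨n, ?_, hprime, ?_⟩
    · by_contra h
      have : (n : ℕ) = 1 := by have := n.pos; omega
      rw [hn, this] at h4
      norm_num at h4
    · letI : Fintype (GaloisField 2 n) := Fintype.ofFinite _
      haveI : Fact (Nat.Prime 2) := ⟨Nat.prime_two⟩
      let r : F ≃+* GaloisField 2 n := FiniteField.ringEquivOfCardEq (show Fintype.card F = Fintype.card (GaloisField 2 n) by
        rw [hn, ← Nat.card_eq_fintype_card, GaloisField.card 2 n n.pos.ne'])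
      exact ⟨e'.trans ((Cfsg.Lib.Spec.pslEquivOfCharTwo (F := F)).symm.trans (Cfsg.Lib.Dickson.pslEquiv r))⟩

end Cfsg.Lib.SelfNormNA
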