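import Cfsg.Agent.Lib.SelfNormNA.Focal

/-!
# The soluble case: non-abelian groups with non-trivial centre
-/

set_option autoImplicit false
set_option linter.style.haveILetI false
set_option linter.unusedSectionVars false

namespace Cfsg.Lib.SelfNormNA

open Subgroup
open scoped commutatorElement

variable {G : Type*} [Group G] [Finite G]

/-- A non-abelian imperfect group with the property is a `p`-group or has a cyclic Sylow
`p`-subgroup containing the centre and centralised by its normaliser. -/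
theorem SN.structure (hsn : SN G) (hnc : ¬ Comm (⊤ : Subgroup G)) (hnp : commutator G ≠ ⊤) :
    (∃ p : ℕ, p.Prime ∧ IsPGroup p G) ∨
      ∃ (p : ℕ) (b : G), p.Prime ∧ (∃ P : Sylow p G, (P : Subgroup G) = zpowers b) ∧
        center G ≤ zpowers b ∧ ∀ n ∈ normalizer ((zpowers b : Subgroup G) : Set G), n * b = b * n := by
  obtain ⟨M, hM, hle⟩ := (eq_top_or_exists_le_coatom (commutator G)).resolve_left hnp
  haveI hMn : M.Normal := ⟨fun n hn g => by
    have h : ⁅g, n⁆ ∈ M := hle (commutator_mem_commutator (mem_top g) (mem_top n))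
    rw [commutatorElement_def] at h
    simpa [mul_assoc] using mul_mem h hn⟩
  have hMc : Comm M := by
    by_contra h
    exact hM.1 (eq_top_iff.mpr fun g _ => hsn M h g fun x hx => hMn.conj_mem x hx g)
  set p := M.index with hpdef
  have hp : p.Prime := index_prime_of_coatom hM hle
  haveI := Fact.mk hp
  obtain ⟨P⟩ : Nonempty (Sylow p G) := inferInstance
  obtain ⟨b, hbP, hbM⟩ : ∃ b ∈ (P : Subgroup G), b ∉ M := by
    by_contra h
    push Not at h
    exact P.not_dvd_index (index_dvd_of_le h)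
  have hcov : ∀ g : G, ∃ (i : ℤ), g * b ^ i ∈ M := by
    intro g
    have hq : Nat.card (G ⧸ M) = p := rfl
    have hb : (QuotientGroup.mk b : G ⧸ M) ≠ 1 := fun h => hbM ((QuotientGroup.eq_one_iff b).mp h)
    obtain ⟨j, hj⟩ : (QuotientGroup.mk g : G ⧸ M) ∈ zpowers (QuotientGroup.mk b : G ⧸ M) :=
      mem_zpowers_of_prime_card hq hb
    refine ⟨-j, ?_⟩
    rw [← QuotientGroup.eq_one_iff, QuotientGroup.mk_mul, QuotientGroup.mk_zpow, zpow_neg,
      show (QuotientGroup.mk b : G ⧸ M) ^ j = QuotientGroup.mk g from hj, mul_inv_cancel]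
  have hcov' : ∀ g : G, ∃ m ∈ M, ∃ i : ℤ, g = m * b ^ i := fun g => by
    obtain ⟨i, hi⟩ := hcov g
    exact ⟨_, hi, -i, by group⟩
  obtain ⟨e, he⟩ : ∃ e, b ^ p ^ e = 1 := by
    obtain ⟨k, hk⟩ := P.isPGroup' ⟨b, hbP⟩
    exact ⟨k, congrArg Subtype.val hk⟩
  have hconjM : ∀ m ∈ M, b * m * b⁻¹ ∈ M := fun m hm => hMn.conj_mem m hm b
  have hcb : ∀ m ∈ M, ⁅m, b⁆ ∈ M := fun m hm => hle (commutator_mem_commutator (mem_top m) (mem_top b))
  have hhom : ∀ m ∈ M, ∀ n ∈ M, ⁅m * n, b⁆ = ⁅m, b⁆ * ⁅n, b⁆ := by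
    intro m hm n hn
    have h1 : ⁅m * n, b⁆ = m * ⁅n, b⁆ * m⁻¹ * ⁅m, b⁆ := by
      rw [commutatorElement_def, commutatorElement_def, commutatorElement_def]; group
    rw [h1, hMc m hm _ (hcb n hn), mul_inv_cancel_right, hMc _ (hcb n hn) _ (hcb m hm)]
  have hhomp : ∀ m ∈ M, ∀ r : ℕ, ⁅m ^ r, b⁆ = ⁅m, b⁆ ^ r := fun m hm r => by
    induction r with
    | zero => simp
    | succ r ih => rw [pow_succ, pow_succ, hhom _ (pow_mem hm r) _ hm, ih]
  -- the `p'`-part of `M`
  let Q : Subgroup G :=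
    { carrier := {x | x ∈ M ∧ ∃ r : ℕ, ¬ p ∣ r ∧ x ^ r = 1}
      one_mem' := ⟨one_mem M, 1, hp.not_dvd_one, one_pow 1⟩
      mul_mem' := by
        rintro x y ⟨hx, r, hr, hxr⟩ ⟨hy, s, hs, hys⟩
        refine ⟨mul_mem hx hy, r * s, fun h => (hp.dvd_mul.mp h).elim hr hs, ?_⟩
        rw [(show Commute x y from hMc x hx y hy).mul_pow, pow_mul, hxr, one_pow, one_mul, mul_comm,
          pow_mul, hys, one_pow]
      inv_mem' := by
        rintro x ⟨hx, r, hr, hxr⟩
        exact ⟨inv_mem hx, r, hr, by rw [inv_pow, hxr, inv_one]⟩ }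
  have hQp : ∀ x ∈ Q, ∀ k : ℕ, x ^ p ^ k = 1 → x = 1 := by
    rintro x ⟨-, r, hr, hxr⟩ k hk
    exact orderOf_eq_one_iff.mp (Nat.eq_one_of_dvd_coprimes
      ((Nat.Prime.coprime_iff_not_dvd hp).mpr hr |>.pow_left k)
      (orderOf_dvd_of_pow_eq_one hk) (orderOf_dvd_of_pow_eq_one hxr))
  have hQb : ∀ x ∈ Q, ⁅x, b⁆ ∈ Q := by
    rintro x ⟨hx, r, hr, hxr⟩
    exact ⟨hcb x hx, r, hr, by rw [← hhomp x hx, hxr, commutatorElement_one_left]⟩
  have hstrong : ∀ q ∈ Q, Commute b ⁅q, b⁆ → ⁅q, b⁆ = 1 := by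
    intro q hq hc
    set s := ⁅q, b⁆ with hs
    have h0 : b * q * b⁻¹ = s⁻¹ * q := by rw [hs, commutatorElement_def]; group
    have hk : ∀ k : ℕ, b ^ k * q * (b ^ k)⁻¹ = s⁻¹ ^ k * q := by
      intro k
      induction k with
      | zero => simp
      | succ k ih =>
        calc b ^ (k + 1) * q * (b ^ (k + 1))⁻¹ = b ^ k * (b * q * b⁻¹) * (b ^ k)⁻¹ := by
              rw [pow_succ]; group
          _ = (b ^ k * s⁻¹ * (b ^ k)⁻¹) * (b ^ k * q * (b ^ k)⁻¹) := by rw [h0]; group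
          _ = s⁻¹ * (s⁻¹ ^ k * q) := by rw [ih, ((hc.inv_right).pow_left k).eq, mul_inv_cancel_right]
          _ = _ := by rw [pow_succ', mul_assoc]
    have h := hk (p ^ e)
    rw [he, one_mul, inv_one, mul_one] at h
    have h' : s⁻¹ ^ p ^ e = 1 := mul_eq_right.mp h.symm
    rw [inv_pow, inv_eq_one] at h'
    exact hQp s (hQb q hq) e h'
  by_cases hall : ∀ q ∈ Q, q * b = b * q
  · -- `P` is normal, hence everything
    left
    refine ⟨p, hp, ?_⟩
    have hQc : Q ≤ center G := fun q hq => mem_center_iff.mpr fun g => by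
      obtain ⟨m, hm, i, rfl⟩ := hcov' g
      rw [mul_assoc, ← ((show Commute q b from hall q hq).zpow_right i).eq, ← mul_assoc,
        hMc m hm q hq.1, mul_assoc]
    have hpp : ∀ g : G, ∃ k : ℕ, g ^ p ^ k ∈ Q := by
      intro g
      obtain ⟨k, hk⟩ : ∃ k : ℕ, orderOf g ∣ p ^ k * ordCompl[p] (orderOf g) :=
        ⟨(orderOf g).factorization p, (Nat.ordProj_mul_ordCompl_eq_self _ _).symm.dvd⟩
      refine ⟨k + 1, ?_, ordCompl[p] (orderOf g), Nat.not_dvd_ordCompl hp (orderOf_pos g).ne', ?_⟩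
      · rw [← QuotientGroup.eq_one_iff, QuotientGroup.mk_pow, pow_succ', pow_mul]
        rw [show (QuotientGroup.mk g : G ⧸ M) ^ p = 1 from
          orderOf_dvd_iff_pow_eq_one.mp (_root_.orderOf_dvd_natCard _), one_pow]
      · rw [← pow_mul]
        exact orderOf_dvd_iff_pow_eq_one.mp (hk.trans (mul_dvd_mul_right (pow_dvd_pow p (by omega)) _))
    have htop : (P : Subgroup G) ⊔ center G = ⊤ := by
      by_contra hne
      set H := (P : Subgroup G) ⊔ center G with hH
      obtain ⟨r, hr, hrd⟩ := Nat.exists_prime_and_dvd (fun h => hne (index_eq_one.mp h) : H.index ≠ 1)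
      haveI := Fact.mk hr
      have hrp : r ≠ p := by
        rintro rfl
        exact P.not_dvd_index (hrd.trans (index_dvd_of_le le_sup_left))
      obtain ⟨R⟩ : Nonempty (Sylow r G) := inferInstance
      refine R.not_dvd_index (hrd.trans (index_dvd_of_le ?_))
      intro x hx
      obtain ⟨k, hk⟩ := R.isPGroup' ⟨x, hx⟩
      have hk' : x ^ r ^ k = 1 := congrArg Subtype.val hk
      obtain ⟨l, hl⟩ := hpp x
      obtain ⟨j, hj⟩ : ∃ j : ℤ, (x ^ p ^ l) ^ j = x := by
        have hco : Nat.Coprime (p ^ l) (orderOf x) := Nat.Coprime.coprime_dvd_right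
          (orderOf_dvd_of_pow_eq_one hk')
          (Nat.Coprime.pow _ _ ((Nat.coprime_primes hp hr).mpr (Ne.symm hrp)))
        obtain ⟨j, hj⟩ := exists_pow_eq_self_of_coprime hco
        exact ⟨j, by rw [zpow_natCast, hj]⟩
      exact mem_sup_right (hj ▸ zpow_mem (hQc hl) j)
    have hPn : ∀ g : G, ∀ x ∈ (P : Subgroup G), g * x * g⁻¹ ∈ (P : Subgroup G) := by
      intro g
      have hle' : (P : Subgroup G) ⊔ center G ≤ normalizer ((P : Subgroup G) : Set G) :=
        sup_le le_normalizer (fun z hz => mem_normalizer_iff.mpr fun x => by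
          rw [(mem_center_iff.mp hz x).symm, mul_inv_cancel_right])
      exact fun x hx => (mem_normalizer_iff.mp (hle' (htop ▸ mem_top g)) x).mp hx
    by_cases hPc : Comm (P : Subgroup G)
    · refine absurd ?_ hnc
      rw [← htop]
      have : (P : Subgroup G) ⊔ center G = closure (((P : Subgroup G) : Set G) ∪ (center G : Set G)) := by
        rw [Subgroup.closure_union, closure_eq, closure_eq]
      rw [this]
      refine comm_closure ?_
      rintro x (hx | hx) y (hy | hy)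
      · exact hPc x hx y hy
      · exact mem_center_iff.mp hy x
      · exact (mem_center_iff.mp hx y).symm
      · exact mem_center_iff.mp hy x
    · intro g
      have hg : g ∈ (P : Subgroup G) := hsn _ hPc g (hPn g)
      obtain ⟨k, hk⟩ := P.isPGroup' ⟨g, hg⟩
      exact ⟨k, congrArg Subtype.val hk⟩
  · right
    push Not at hall
    obtain ⟨q₀, hq₀, hq₀b⟩ := hall
    let Q₁ : Subgroup G :=
      { carrier := (fun q => ⁅q, b⁆) '' (Q : Set G)
        one_mem' := ⟨1, one_mem Q, commutatorElement_one_left b⟩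
        mul_mem' := by
          rintro _ _ ⟨x, hx, rfl⟩ ⟨y, hy, rfl⟩
          exact ⟨x * y, mul_mem hx hy, hhom x hx.1 y hy.1⟩
        inv_mem' := by
          rintro _ ⟨x, hx, rfl⟩
          refine ⟨x⁻¹, inv_mem hx, eq_inv_of_mul_eq_one_left ?_⟩
          rw [← hhom _ (inv_mem hx.1) x hx.1, inv_mul_cancel, commutatorElement_one_left] }
    have hQ₁ : Q₁ ≤ Q := by rintro _ ⟨x, hx, rfl⟩; exact hQb x hx
    have hbQ : ∀ x ∈ Q, b * x * b⁻¹ ∈ Q := by
      rintro x ⟨hx, r, hr, hxr⟩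
      exact ⟨hconjM x hx, r, hr, by rw [conj_pow, hxr, mul_one, mul_inv_cancel]⟩
    have hbQ₁ : ∀ x ∈ Q₁, b * x * b⁻¹ ∈ Q₁ := by
      rintro _ ⟨x, hx, rfl⟩
      refine ⟨b * x * b⁻¹, hbQ x hx, ?_⟩
      show ⁅b * x * b⁻¹, b⁆ = b * ⁅x, b⁆ * b⁻¹
      rw [commutatorElement_def, commutatorElement_def]; group
    have hnormQ₁ : zpowers b ≤ normalizer (Q₁ : Set G) :=
      zpowers_le.mpr (Cfsg.Lib.Fusion.le_normalizer_of_conj_mem hbQ₁)
    set H := zpowers b ⊔ Q₁ with hH
    have hHmem : ∀ g ∈ H, ∃ s ∈ Q₁, ∃ i : ℤ, g = s * b ^ i := by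
      intro g hg
      rw [← SetLike.mem_coe, hH, sup_comm, Subgroup.coe_mul_of_right_le_normalizer_left Q₁ _ hnormQ₁] at hg
      obtain ⟨s, hs, t, ⟨i, rfl⟩, rfl⟩ := hg
      exact ⟨s, hs, i, rfl⟩
    have hHnc : ¬ Comm H := fun h => by
      refine hq₀b (commutatorElement_eq_one_iff_mul_comm.mp (hstrong q₀ hq₀ ?_))
      exact h b (mem_sup_left (mem_zpowers b)) _ (mem_sup_right ⟨q₀, hq₀, rfl⟩)
    have hzpow : ∀ i : ℤ, (b ^ i) ^ p ^ e = 1 := fun i => by
      rw [← zpow_natCast, ← zpow_mul, mul_comm, zpow_mul, zpow_natCast, he, one_zpow]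
    have hcomm_part : ∀ s ∈ Q₁, ∀ i : ℤ, Commute b (s * b ^ i) → s = 1 := by
      rintro _ ⟨x, hx, rfl⟩ i hc
      refine hstrong x hx ?_
      have h := hc.mul_right (Commute.self_zpow b i).inv_right
      rwa [mul_inv_cancel_right] at h
    have hcen : center G ≤ zpowers b := by
      intro z hz
      obtain ⟨s, hs, i, rfl⟩ := hHmem z (hsn H hHnc z fun h hh => by
        rw [(mem_center_iff.mp hz h).symm, mul_inv_cancel_right]; exact hh)
      rw [hcomm_part s hs i (mem_center_iff.mp hz b), one_mul]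
      exact zpow_mem (mem_zpowers b) i
    have hPR : (P : Subgroup G) = zpowers b := by
      by_contra hne
      have hle' : zpowers b ≤ (P : Subgroup G) := zpowers_le.mpr hbP
      haveI := P.isPGroup'.isNilpotent
      have hlt : (zpowers b).subgroupOf (P : Subgroup G) < ⊤ :=
        lt_top_iff_ne_top.mpr fun h => hne (le_antisymm (subgroupOf_eq_top.mp h) hle')
      obtain ⟨g, hg, hgR⟩ := SetLike.exists_of_lt (Group.normalizerCondition_of_isNilpotent _ hlt)
      have hgR' : ∀ x ∈ zpowers b, (g : G) * x * (g : G)⁻¹ ∈ zpowers b := fun x hx =>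
        mem_subgroupOf.mp ((mem_normalizer_iff.mp hg ⟨x, hle' hx⟩).mp (mem_subgroupOf.mpr hx))
      obtain ⟨m, hm, i, hgm⟩ := hcov' g
      have hmP : m ∈ (P : Subgroup G) := by
        have : m = g * (b ^ i)⁻¹ := by rw [hgm, mul_inv_cancel_right]
        rw [this]
        exact mul_mem g.2 (inv_mem (zpow_mem hbP i))
      have hmH : m ∈ H := by
        refine hsn H hHnc m fun h hh => ?_
        obtain ⟨s, hs, j, rfl⟩ := hHmem h hh
        have h1 : m * (s * b ^ j) * m⁻¹ = s * (m * b ^ j * m⁻¹) := by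
          rw [← mul_assoc, hMc m hm s (hQ₁ hs).1]; group
        have h2 : m * b ^ j * m⁻¹ = (g : G) * b ^ j * (g : G)⁻¹ := by rw [hgm]; group
        rw [h1, h2]
        exact mul_mem (mem_sup_right hs) (mem_sup_left (hgR' _ (zpow_mem (mem_zpowers b) j)))
      obtain ⟨s, hs, j, hmj⟩ := hHmem m hmH
      have hsP : s ∈ (P : Subgroup G) := by
        have : s = m * (b ^ j)⁻¹ := by rw [hmj, mul_inv_cancel_right]
        rw [this]
        exact mul_mem hmP (inv_mem (zpow_mem hbP j))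
      obtain ⟨k, hk⟩ := P.isPGroup' ⟨s, hsP⟩
      have hs1 : s = 1 := hQp s (hQ₁ hs) k (congrArg Subtype.val hk)
      refine hgR (mem_subgroupOf.mpr ?_)
      rw [hgm, hmj, hs1, one_mul]
      exact mul_mem (zpow_mem (mem_zpowers b) _) (zpow_mem (mem_zpowers b) _)
    refine ⟨p, b, hp, ⟨P, hPR⟩, hcen, fun n hn => ?_⟩
    obtain ⟨m, hm, i, rfl⟩ := hcov' n
    suffices h : ⁅m, b⁆ = 1 by
      rw [mul_assoc, ← (Commute.self_zpow b i).eq, ← mul_assoc,
        commutatorElement_eq_one_iff_mul_comm.mp h, mul_assoc]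
    have hmR : ⁅m, b⁆ ∈ zpowers b := by
      have h1 : (m * b ^ i) * b * (m * b ^ i)⁻¹ ∈ zpowers b :=
        (mem_normalizer_iff.mp hn b).mp (mem_zpowers b)
      have h2 : (m * b ^ i) * b * (m * b ^ i)⁻¹ = m * b * m⁻¹ := by group
      rw [h2] at h1
      rw [commutatorElement_def]
      exact mul_mem h1 (inv_mem (mem_zpowers b))
    have hp1 : ⁅m, b⁆ ^ p ^ e = 1 := by obtain ⟨j, hj⟩ := hmR; rw [← hj]; exact hzpow j
    -- kill the prime-to-`p` exponent
    set o := orderOf m with ho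
    set r := ordCompl[p] o with hr
    have hr1 : ¬ p ∣ r := Nat.not_dvd_ordCompl hp (orderOf_pos m).ne'
    let T : Subgroup G :=
      { carrier := {x | x ∈ M ∧ ∃ k : ℕ, x ^ p ^ k = 1}
        one_mem' := ⟨one_mem M, 0, one_pow _⟩
        mul_mem' := by
          rintro x y ⟨hx, k, hk⟩ ⟨hy, l, hl⟩
          refine ⟨mul_mem hx hy, k + l, ?_⟩
          rw [(show Commute x y from hMc x hx y hy).mul_pow, pow_add, pow_mul, hk, one_pow, one_mul,
            mul_comm, pow_mul, hl, one_pow]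
        inv_mem' := by
          rintro x ⟨hx, k, hk⟩
          exact ⟨inv_mem hx, k, by rw [inv_pow, hk, inv_one]⟩ }
    haveI : T.Normal := ⟨fun x ⟨hx, k, hk⟩ g =>
      ⟨hMn.conj_mem x hx g, k, by rw [conj_pow, hk, mul_one, mul_inv_cancel]⟩⟩
    have hTp : IsPGroup p T := fun x => by
      obtain ⟨-, k, hk⟩ := x.2
      exact ⟨k, Subtype.ext hk⟩
    have hTP : T ≤ (P : Subgroup G) := hTp.le_sylow_of_normal P
    have hmr : m ^ r ∈ zpowers b := hPR ▸ hTP ⟨pow_mem hm r, o.factorization p, by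
      rw [← pow_mul, mul_comm, hr, Nat.ordProj_mul_ordCompl_eq_self, ho, pow_orderOf_eq_one]⟩
    have hr2 : ⁅m, b⁆ ^ r = 1 := by
      rw [← hhomp m hm r]
      obtain ⟨j, hj⟩ := hmr
      rw [← hj]
      exact commutatorElement_eq_one_iff_mul_comm.mpr (Commute.zpow_self b j).eq
    exact orderOf_eq_one_iff.mp (Nat.eq_one_of_dvd_coprimes
      ((Nat.Prime.coprime_iff_not_dvd hp).mpr hr1 |>.pow_left e)
      (orderOf_dvd_of_pow_eq_one hp1) (orderOf_dvd_of_pow_eq_one hr2))

end Cfsg.Lib.SelfNormNA
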